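import Groth.Agent.FSch.K178.IsoCompl
import Groth.Agent.S0056

/-!
# Algebraization of a proper flat formal scheme with `H² = 0` and projective special fibre
-/

set_option autoImplicit false
universe u
set_option maxHeartbeats 400000

open CategoryTheory CategoryTheory.Limits AlgebraicGeometry Opposite

namespace K178.AlgH2

open K178.SpfCompl

variable {A : Type u} [CommRing A] {J : Ideal A} {𝔛 : FSch.Sys.{u}} (f : 𝔛 ⟶ cA A J)

/-- the structure map at level `n` over `Spec (A/J^(n+1))` -/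
noncomputable def fs (n : ℕ) : 𝔛.X n ⟶ Spec (CommRingCat.of (A ⧸ J ^ (n + 1))) :=
  (f : FSch.Hom _ _).app n ≫ levInv A J n

theorem fs_comp (n : ℕ) : fs f n ≫ CohB1.specQuot J n = (f : FSch.Hom _ _).app n ≫ cι A J n := by
  rw [fs, Category.assoc]
  exact congrArg (_ ≫ ·) (levInv_ι A J n)

theorem isPullback_lev (n : ℕ) : IsPullback ((FSch.spf A J).ι n) (lev A J n) (lev A J (n + 1)) ((cA A J).ι n) := by
  have : IsIso (lev A J n) := ⟨levInv A J n, lev_levInv A J n, levInv_lev A J n⟩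
  have : IsIso (lev A J (n + 1)) := ⟨levInv A J (n + 1), lev_levInv A J (n + 1), levInv_lev A J (n + 1)⟩
  exact IsPullback.of_vert_isIso ⟨(lev_trans A J n).symm⟩

instance (n : ℕ) : IsIso (levInv A J n) := ⟨lev A J n, levInv_lev A J n, lev_levInv A J n⟩

instance (n : ℕ) : IsIso (lev A J n) := ⟨levInv A J n, lev_levInv A J n, levInv_lev A J n⟩

theorem isPullback_levInv (n : ℕ) :
    IsPullback ((cA A J).ι n) (levInv A J n) (levInv A J (n + 1)) ((FSch.spf A J).ι n) :=
  IsPullback.of_vert_isIso ⟨(levInv_trans A J n).symm⟩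

theorem isPullback_fs (hf : FSch.IsAdicHom f) (n : ℕ) :
    IsPullback (𝔛.ι n) (fs f n) (fs f (n + 1)) (CohB1.specQuotTrans J n) :=
  (hf n).paste_vert (isPullback_levInv (A := A) (J := J) n)

/-- `Spec (A/J^(n+1))` is the level `n` of the completion of `Spec A`. -/
noncomputable def levIso (A : Type u) [CommRing A] (J : Ideal A) (n : ℕ) :
    Spec (CommRingCat.of (A ⧸ J ^ (n + 1))) ≅ (cA A J).X n :=
  ⟨lev A J n, levInv A J n, lev_levInv A J n, levInv_lev A J n⟩

theorem isPullback_cι {Y : Scheme.{u}} {g : Y ⟶ Spec (CommRingCat.of A)} {n : ℕ} {e : 𝔛.X n ⟶ Y}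
    (h : IsPullback e (fs f n) g (CohB1.specQuot J n)) :
    IsPullback e ((f : FSch.Hom _ _).app n) g (cι A J n) := by
  refine h.of_iso (Iso.refl _) (Iso.refl _) (levIso A J n) (Iso.refl _) ?_ ?_ ?_ ?_
  · rw [Iso.refl_hom, Iso.refl_hom, Category.comp_id, Category.id_comp]
  · rw [Iso.refl_hom, Category.id_comp, fs, Category.assoc]
    exact (congrArg (_ ≫ ·) (levInv_lev A J n)).trans (Category.comp_id _)
  · rw [Iso.refl_hom, Iso.refl_hom, Category.comp_id, Category.id_comp]
  · rw [Iso.refl_hom, Category.comp_id]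
    exact (lev_ι A J n).symm

theorem main [IsNoetherianRing A] [IsAdicComplete J A] (hf : FSch.IsProperHom f)
    (L : (n : ℕ) → (𝔛.X n).Modules) (hL : ∀ n, PicF.IsInvertible (L n))
    (φ : ∀ n, Nonempty ((Scheme.Modules.pullback (𝔛.ι n)).obj (L (n + 1)) ≅ L n)) (ha : CohB1.IsAmple (L 0)) :
    ∃ (X : Scheme.{u}) (g : X ⟶ (Spec (CommRingCat.of A))) (L : X.Modules), IsProper g ∧ CohB1.IsAmple L ∧
      ∃ (h : FSch.PowCompat g ((FSch.idealSpec A J).comap g) (FSch.idealSpec A J))
        (e : 𝔛 ≅ FSch.completionAlong X ((FSch.idealSpec A J).comap g)),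
        e.hom ≫ FSch.completionMap g ((FSch.idealSpec A J).comap g) (FSch.idealSpec A J) h = f := by
  have hp : IsProper (fs f 0) := by
    have h1 := hf.2
    have h2 : IsIso (levIso A J 0).inv := inferInstance
    exact MorphismProperty.comp_mem @IsProper _ (levIso A J 0).inv h1 inferInstance
  obtain ⟨Y, g, M, e, hg, -, hM, hpb, he, -⟩ :=
    Groth.Agent.S0056.result A J (fun n => 𝔛.X n) (fun n => fs f n) (fun n => 𝔛.ι n)
      (fun n => isPullback_fs f hf.1 n) hp L hL φ ha
  refine ⟨Y, g, M, hg, hM, K178.IsoCompl.powCompat g _, ?_⟩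
  exact K178.IsoCompl.exists_iso g (FSch.idealSpec A J) _ 𝔛 f e (fun n => isPullback_cι f (hpb n))
    (fun n => (he n).symm)

end K178.AlgH2
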