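import Groth.Agent.FSch.K178.ORes
import Groth.Agent.FSch.K288.LinH
import Groth.Agent.CurvesA.TopDeg

/-!
# The comparison `H^q(T', F|_{T'}) ⟶ Γ(V, R^q f_* F)` for an open embedding `T' = f⁻¹ V`

`al f g ψ V e F q : H^q(T', F|) →+ Sec (R^q f_* F) V`, natural in `F` (`al_map`), linear (`al_smul`), compatible with `th` (`al_bijective`).
-/

set_option autoImplicit false
set_option linter.style.haveILetI false

universe w w' u

open CategoryTheory CategoryTheory.Limits CategoryTheory.Abelian Opposite TopologicalSpace Topology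

noncomputable section

namespace K178.Alpha

open K578.ModTest K578.PushComp K29.RSec K29.RExact Groth.Agent.Gaga.H977.OpenRes K178.Theta K178.ORes
  K288.LinH K288.ActDelta Groth.Agent.CohtopA.Flasque Groth.Agent.CurvesA.TopDeg K178.EdgeAb

section Lin

variable {T₁ T₂ : TopCat.{u}} {O₁ : Sheaf (Opens.grothendieckTopology T₁) CommRingCat.{u}}
  {O₂ : Sheaf (Opens.grothendieckTopology T₂) CommRingCat.{u}} (f : ModSite.RMor O₁ O₂)

/-- The ring map `O₂(V) → O₁(f⁻¹V)`. -/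
def shp (V : Opens T₂) : O O₂ V →+* O O₁ (f.fn.obj V) := (f.sharp.hom.app (op V)).hom

theorem mulP_uV (V : Opens T₂) (b : O O₂ V) :
    mulP V b ≫ uV f V = uV f V ≫ f.push.map (mulP (f.fn.obj V) (shp f V b)) := by
  apply (hs V _).injective
  rw [hs_mulP_comp]
  refine Eq.trans ?_ (homEq_uV_comp f V _ (mulP (f.fn.obj V) (shp f V b))).symm
  have h1 : hs V _ (uV f V) = pushSec f V _ (gen (ModSite.ringSh O₁) (f.fn.obj V)) := Equiv.apply_symm_apply _ _
  have h2 : homEq (ModSite.ringSh O₁) (f.fn.obj V) _ (mulP (f.fn.obj V) (shp f V b)) =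
    shp f V b • hs _ _ (𝟙 ((PO O₁).obj (f.fn.obj V))) := Equiv.apply_symm_apply _ _
  rw [h1, h2]
  rfl

variable [HasInjectiveResolutions (ModSite.Mod O₁)] [HasExt.{w} (ModSite.Mod O₁)]

theorem tE_mulP (V : Opens T₂) (F : ModSite.Mod O₁) (q : ℕ) (b : O O₂ V)
    (x : Ext.{w} ((PO O₁).obj (f.fn.obj V)) F q) :
    tE f V F q ((Ext.mk₀ (mulP (f.fn.obj V) (shp f V b))).comp x (zero_add q)) = mulP V b ≫ tE f V F q x :=
  theta_precomp f.push (uV f V) (uV f V) _ _ (mulP_uV f V b) x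

end Lin

section Cen

variable {T : TopCat.{u}} {R : Sheaf (Opens.grothendieckTopology T) CommRingCat.{u}}

/-- Multiplication by a global function as an endomorphism of the identity functor. -/
def zMul (s : O R ⊤) : 𝟭 (Mod R) ⟶ 𝟭 (Mod R) where
  app F := mul s F
  naturality _ _ φ := mul_naturality s φ

theorem mul_PO (s : O R ⊤) : mul s ((PO R).obj ⊤) = mulP ⊤ s := by
  apply (hs ⊤ _).injective
  rw [mulP, Equiv.apply_symm_apply]
  have h1 := hs_comp (𝟙 ((PO R).obj ⊤)) (mul s _)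
  rw [Category.id_comp] at h1
  rw [h1, app_mul]
  congr 1
  exact resO_self _ _

end Cen

variable {T₁ T₂ T' : TopCat.{u}} {O₁ : Sheaf (Opens.grothendieckTopology T₁) CommRingCat.{u}}
  {O₂ : Sheaf (Opens.grothendieckTopology T₂) CommRingCat.{u}} (f : ModSite.RMor O₁ O₂)
  (g : T' ⟶ T₁) [hg : Fact (IsOpenEmbedding g)]
  {R' : Sheaf (Opens.grothendieckTopology T') CommRingCat.{u}}
  (ψ : R' ⟶ ((imO g).sheafPushforwardContinuous CommRingCat.{u} (Opens.grothendieckTopology T')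
    (Opens.grothendieckTopology T₁)).obj O₁)
  (V : Opens T₂) (e : (imO g).obj ⊤ = f.fn.obj V)

section E

variable [HasExt.{w} (Mod O₁)] [HasExt.{w'} (Mod R')]

/-- `Ext^q(P(f⁻¹V), F) ≃+ H^q(T', F|)`. -/
def hE (F : Mod O₁) (q : ℕ) :
    Ext.{w} ((PO O₁).obj (f.fn.obj V)) F q ≃+ CohTop.H (ModSite.toAb ((rM g ψ).obj F)) q :=
  (iE.{w, w'} g ψ ⊤ (f.fn.obj V) e F q).trans
    ((eE.{w'} ((rM g ψ).obj F) q ⊤).trans (HTopEquiv (ModSite.toAb ((rM g ψ).obj F)) q).symm)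

theorem hE_comp {F G : Mod O₁} (φ : F ⟶ G) (q : ℕ) (y : Ext.{w} ((PO O₁).obj (f.fn.obj V)) F q) :
    hE.{w, w'} f g ψ V e G q (y.comp (Ext.mk₀ φ) (add_zero q)) =
      Sheaf.H.map ((SheafOfModules.toSheaf (ringSheaf R')).map ((rM g ψ).map φ)) q (hE.{w, w'} f g ψ V e F q y) := by
  change (HTopEquiv _ q).symm (eE.{w'} _ q ⊤ (iE.{w, w'} g ψ ⊤ (f.fn.obj V) e G q _)) = _
  rw [iE_comp, eE_comp]
  exact HTopEquiv_symm_map _ q _

theorem hE_mul (b : O O₂ V) (b' : O R' ⊤) (hb : cψ g ψ ⊤ b' = resO e.le (shp f V b)) (F : Mod O₁) (q : ℕ)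
    (y : Ext.{w} ((PO O₁).obj (f.fn.obj V)) F q) :
    hE.{w, w'} f g ψ V e F q ((Ext.mk₀ (mulP (f.fn.obj V) (shp f V b))).comp y (zero_add q)) =
      Sheaf.H.map ((SheafOfModules.toSheaf (ringSheaf R')).map (mul b' ((rM g ψ).obj F))) q
        (hE.{w, w'} f g ψ V e F q y) := by
  haveI := K578.Der.enoughInjectives R'
  change (HTopEquiv _ q).symm (eE.{w'} _ q ⊤ (iE.{w, w'} g ψ ⊤ (f.fn.obj V) e F q _)) = _
  rw [iE_mulP g ψ ⊤ (f.fn.obj V) e _ b' hb, ← mul_PO]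
  have h1 := comp_central (zMul b') (iE.{w, w'} g ψ ⊤ (f.fn.obj V) e F q y)
  have h2 : (iE.{w, w'} g ψ ⊤ (f.fn.obj V) e F q y).comp (Ext.mk₀ (mul b' ((rM g ψ).obj F))) (add_zero q) =
    (Ext.mk₀ (mul b' ((PO R').obj ⊤))).comp (iE.{w, w'} g ψ ⊤ (f.fn.obj V) e F q y) (zero_add q) := h1
  rw [← h2, eE_comp]
  exact HTopEquiv_symm_map _ q _

end E

variable [HasInjectiveResolutions (Mod O₁)]

/-- The comparison `H^q(T', F|) →+ Γ(V, R^q f_* F)`. -/
def al (F : Mod O₁) (q : ℕ) : CohTop.H (ModSite.toAb ((rM g ψ).obj F)) q →+ Sec ((f.Rpush q).obj F) V :=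
  haveI : HasExt.{u + 1} (Mod O₁) := HasExt.standard _
  haveI : HasExt.{u + 1} (Mod R') := HasExt.standard _
  { toFun := fun x => hs V ((f.Rpush q).obj F) (tE.{u + 1} f V F q ((hE.{u + 1, u + 1} f g ψ V e F q).symm x))
    map_zero' := by rw [map_zero, map_zero]; exact homEq_zero
    map_add' := fun x y => by rw [map_add, map_add]; exact homEq_add _ _ }

theorem al_hE [HasExt.{u + 1} (Mod O₁)] [HasExt.{u + 1} (Mod R')] (F : Mod O₁) (q : ℕ)
    (y : Ext.{u + 1} ((PO O₁).obj (f.fn.obj V)) F q) :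
    al f g ψ V e F q (hE.{u + 1, u + 1} f g ψ V e F q y) = hs V _ (tE.{u + 1} f V F q y) := by
  change hs V _ (tE.{u + 1} f V F q ((hE.{u + 1, u + 1} f g ψ V e F q).symm _)) = _
  erw [AddEquiv.symm_apply_apply]

theorem al_map {F G : Mod O₁} (φ : F ⟶ G) (q : ℕ) (x : CohTop.H (ModSite.toAb ((rM g ψ).obj F)) q) :
    al f g ψ V e G q (Sheaf.H.map ((SheafOfModules.toSheaf (ringSheaf R')).map ((rM g ψ).map φ)) q x) =
      app ((f.Rpush q).map φ) V (al f g ψ V e F q x) := by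
  haveI : HasExt.{u + 1} (Mod O₁) := HasExt.standard _
  haveI : HasExt.{u + 1} (Mod R') := HasExt.standard _
  obtain ⟨y, rfl⟩ := (hE.{u + 1, u + 1} f g ψ V e F q).surjective x
  rw [← hE_comp, al_hE, al_hE, tE_comp, hs_comp]

theorem al_mul (b : O O₂ V) (b' : O R' ⊤) (hb : cψ g ψ ⊤ b' = resO e.le (shp f V b)) (F : Mod O₁) (q : ℕ)
    (x : CohTop.H (ModSite.toAb ((rM g ψ).obj F)) q) :
    al f g ψ V e F q (Sheaf.H.map ((SheafOfModules.toSheaf (ringSheaf R')).map (mul b' ((rM g ψ).obj F))) q x) =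
      b • al f g ψ V e F q x := by
  haveI : HasExt.{u + 1} (Mod O₁) := HasExt.standard _
  haveI : HasExt.{u + 1} (Mod R') := HasExt.standard _
  obtain ⟨y, rfl⟩ := (hE.{u + 1, u + 1} f g ψ V e F q).surjective x
  rw [← hE_mul f g ψ V e b b' hb, al_hE, al_hE, tE_mulP, hs_mulP_comp]

/-- `al` is bijective iff `th` is. -/
theorem al_bijective (F : Mod O₁) (q : ℕ) (h : Function.Bijective (th f V F q)) :
    Function.Bijective (al f g ψ V e F q) := by
  haveI : HasExt.{u + 1} (Mod O₁) := HasExt.standard _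
  haveI : HasExt.{u + 1} (Mod R') := HasExt.standard _
  have h1 : (hs V ((f.Rpush q).obj F)) ∘ (tE.{u + 1} f V F q) = (th f V F q) ∘ (eE.{u + 1} F q (f.fn.obj V)) :=
    funext fun x => (th_eq f V F q x).symm
  have h2 : Function.Bijective ((hs V ((f.Rpush q).obj F)) ∘ (tE.{u + 1} f V F q)) := by
    rw [h1]
    exact h.comp (eE.{u + 1} F q (f.fn.obj V)).bijective
  have h3 : (al f g ψ V e F q : CohTop.H (ModSite.toAb ((rM g ψ).obj F)) q → Sec ((f.Rpush q).obj F) V) =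
      ((hs V ((f.Rpush q).obj F)) ∘ (tE.{u + 1} f V F q)) ∘ (hE.{u + 1, u + 1} f g ψ V e F q).symm := by
    funext x
    obtain ⟨y, rfl⟩ := (hE.{u + 1, u + 1} f g ψ V e F q).surjective x
    rw [al_hE, Function.comp_apply, AddEquiv.symm_apply_apply, Function.comp_apply]
  rw [h3]
  exact h2.comp (hE.{u + 1, u + 1} f g ψ V e F q).symm.bijective

end K178.Alpha
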