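import Mathlib.Algebra.Homology.DerivedCategory.Ext.ExactSequences
import Mathlib.CategoryTheory.Abelian.Injective.Ext
import Mathlib.CategoryTheory.Abelian.RightDerived

/-!
# The edge map `Ext^q(P, M) ⟶ Hom(P', R^q G M)`

For an additive functor `G : A ⥤ B` and `u : P' ⟶ G P`:

* `theta G u M q : Ext P M q →+ (P' ⟶ (G.rightDerived q).obj M)`;
* `theta_extMk`, `theta_comp`, `theta_precomp`: value on cocycles, naturality in `M` and in `u`;
* `acyc_cycles`, `exists_lift_cycles`, `exists_boundary`: a complex with `P'`-acyclic terms and cohomology;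
* `theta_bijective`.
-/

set_option autoImplicit false

universe w w' v v' u u'

open CategoryTheory CategoryTheory.Limits CategoryTheory.Abelian HomologicalComplex

noncomputable section

namespace K178.EdgeAb

section Acyc

variable {B : Type u'} [Category.{v'} B] [Abelian B] [HasExt.{w'} B] (P : B)

/-- Vanishing of the positive `Ext`-groups out of `P`. -/
def Ac (M : B) : Prop := ∀ n : ℕ, Subsingleton (Ext.{w'} P M (n + 1))

variable {P}

theorem ac_of_iso {M N : B} (e : M ≅ N) (h : Ac P M) : Ac P N := fun n => by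
  refine subsingleton_of_forall_eq 0 fun x => ?_
  have h1 : x = (x.comp (Ext.mk₀ e.inv) (add_zero _)).comp (Ext.mk₀ e.hom) (add_zero _) := by
    rw [Ext.comp_assoc_of_third_deg_zero, Ext.mk₀_comp_mk₀, e.inv_hom_id, Ext.comp_mk₀_id]
  rw [h1, (h n).elim (x.comp (Ext.mk₀ e.inv) (add_zero _)) 0, Ext.zero_comp]

theorem ac_of_isZero {M : B} (h : IsZero M) : Ac P M := fun n => by
  refine subsingleton_of_forall_eq 0 fun x => ?_
  rw [← Ext.comp_mk₀_id x, h.eq_of_src (𝟙 M) 0, Ext.mk₀_zero, Ext.comp_zero]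

variable {S : ShortComplex B} (hS : S.ShortExact)

include hS

theorem ac_X₂ (h1 : Ac P S.X₁) (h3 : Ac P S.X₃) : Ac P S.X₂ := fun n => by
  refine subsingleton_of_forall_eq 0 fun x => ?_
  obtain ⟨y, hy⟩ := Ext.covariant_sequence_exact₂ P hS x ((h3 n).elim _ _)
  rw [← hy, (h1 n).elim y 0, Ext.zero_comp]

theorem ac_X₃ (h1 : Ac P S.X₁) (h2 : Ac P S.X₂) : Ac P S.X₃ := fun n => by
  refine subsingleton_of_forall_eq 0 fun x => ?_
  obtain ⟨y, hy⟩ := Ext.covariant_sequence_exact₃ P hS x (n₁ := n + 1 + 1) rfl ((h1 (n + 1)).elim _ _)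
  rw [← hy, (h2 n).elim y 0, Ext.zero_comp]

theorem exists_lift (h1 : Ac P S.X₁) (s : P ⟶ S.X₃) : ∃ t : P ⟶ S.X₂, t ≫ S.g = s := by
  obtain ⟨y, hy⟩ := Ext.covariant_sequence_exact₃ P hS (Ext.mk₀ s) (n₁ := 0 + 1) rfl ((h1 0).elim _ _)
  obtain ⟨t, rfl⟩ := Ext.addEquiv₀.symm.surjective y
  refine ⟨t, ?_⟩
  apply Ext.addEquiv₀.symm.injective
  change Ext.mk₀ (t ≫ S.g) = Ext.mk₀ s
  rw [← Ext.mk₀_comp_mk₀]
  exact hy

end Acyc

section Cx

variable {B : Type u'} [Category.{v'} B] [Abelian B] (K : CochainComplex B ℕ)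

theorem toCycles_π (m n : ℕ) (_ : m + 1 = n) : K.toCycles m n ≫ K.homologyπ n = 0 := by
  simp

/-- The boundaries. -/
abbrev Bd (n : ℕ) : B := kernel (K.homologyπ n)

/-- `0 ⟶ B^n ⟶ Z^n ⟶ H^n ⟶ 0`. -/
def s1 (n : ℕ) : ShortComplex B := ShortComplex.mk (kernel.ι (K.homologyπ n)) (K.homologyπ n) (kernel.condition _)

theorem s1_exact (n : ℕ) : (s1 K n).ShortExact where
  exact := ShortComplex.exact_kernel _
  mono_f := inferInstanceAs (Mono (kernel.ι (K.homologyπ n)))
  epi_g := inferInstanceAs (Epi (K.homologyπ n))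

/-- `K^m ⟶ B^{m+1}`. -/
def toBd (m n : ℕ) (h : m + 1 = n) : K.X m ⟶ Bd K n := kernel.lift _ (K.toCycles m n) (toCycles_π K m n h)

theorem exact_toCycles_π (m n : ℕ) (h : m + 1 = n) :
    (ShortComplex.mk (K.toCycles m n) (K.homologyπ n) (toCycles_π K m n h)).Exact :=
  ShortComplex.exact_of_g_is_cokernel _ (K.homologyIsCokernel m n (by simp [← h]))

theorem epi_toBd (m n : ℕ) (h : m + 1 = n) : Epi (toBd K m n h) :=
  (exact_toCycles_π K m n h).epi_kernelLift

/-- `0 ⟶ Z^m ⟶ K^m ⟶ B^{m+1} ⟶ 0`. -/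
def s2 (m n : ℕ) (h : m + 1 = n) : ShortComplex B := ShortComplex.mk (K.iCycles m) (toBd K m n h) (by
  rw [← cancel_mono (kernel.ι (K.homologyπ n)), toBd, Category.assoc, kernel.lift_ι, zero_comp,
    ← cancel_mono (K.iCycles n), Category.assoc, K.toCycles_i, zero_comp, K.iCycles_d])

theorem s2_exact (m n : ℕ) (h : m + 1 = n) : (s2 K m n h).ShortExact where
  exact := by
    have h1 : (ShortComplex.mk (K.iCycles m) (K.d m n) (K.iCycles_d m n)).Exact :=
      ShortComplex.exact_of_f_is_kernel _ (K.cyclesIsKernel m n (by simp [← h]))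
    rw [ShortComplex.exact_iff_exact_up_to_refinements] at h1 ⊢
    intro A (x : A ⟶ K.X m) (hx : x ≫ toBd K m n h = 0)
    refine h1 x ?_
    have h2 : K.d m n = toBd K m n h ≫ kernel.ι (K.homologyπ n) ≫ K.iCycles n := by
      rw [toBd, kernel.lift_ι_assoc, K.toCycles_i]
    change x ≫ K.d m n = 0
    rw [h2, ← Category.assoc, hx, zero_comp]
  mono_f := inferInstanceAs (Mono (K.iCycles m))
  epi_g := epi_toBd K m n h

theorem isIso_π_zero : IsIso (K.homologyπ 0) :=
  K.isIso_homologyπ 0 0 (by simp) (K.shape _ _ (by simp))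

theorem isZero_Bd_zero : IsZero (Bd K 0) := by
  have := isIso_π_zero K
  exact isZero_kernel_of_mono _

variable [HasExt.{w'} B] {P : B} (hK : ∀ n, Ac.{w'} P (K.X n)) (hH : ∀ n, Ac.{w'} P (K.homology n))

include hK hH

theorem acyc_cycles : ∀ n, Ac.{w'} P (Bd K n) ∧ Ac.{w'} P (K.cycles n)
  | 0 => ⟨ac_of_isZero (isZero_Bd_zero K), ac_X₂ (s1_exact K 0) (ac_of_isZero (isZero_Bd_zero K)) (hH 0)⟩
  | n + 1 => by
    have h1 : Ac P (Bd K (n + 1)) := ac_X₃ (s2_exact K n (n + 1) rfl) (acyc_cycles n).2 (hK n)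
    exact ⟨h1, ac_X₂ (s1_exact K (n + 1)) h1 (hH (n + 1))⟩

theorem exists_lift_cycles (n : ℕ) (s : P ⟶ K.homology n) : ∃ z : P ⟶ K.cycles n, z ≫ K.homologyπ n = s :=
  exists_lift (s1_exact K n) (acyc_cycles K hK hH n).1 s

theorem exists_boundary (m n : ℕ) (h : m + 1 = n) (z : P ⟶ K.cycles n) (hz : z ≫ K.homologyπ n = 0) :
    ∃ y : P ⟶ K.X m, y ≫ K.toCycles m n = z := by
  obtain ⟨(y : P ⟶ K.X m), (hy : y ≫ toBd K m n h = kernel.lift _ z hz)⟩ :=
    exists_lift (s2_exact K m n h) (acyc_cycles K hK hH m).2 (kernel.lift _ z hz)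
  refine ⟨y, ?_⟩
  have h2 : K.toCycles m n = toBd K m n h ≫ kernel.ι (K.homologyπ n) := by
    rw [toBd, kernel.lift_ι]
  rw [h2, ← Category.assoc, hy, kernel.lift_ι]

end Cx

section Theta

variable {A : Type u} [Category.{v} A] [Abelian A]
  {B : Type u'} [Category.{v'} B] [Abelian B] (G : A ⥤ B) [G.Additive]

/-- The complex `G I`. -/
abbrev GI {M : A} (R : InjectiveResolution M) : CochainComplex B ℕ :=
  (G.mapHomologicalComplex (ComplexShape.up ℕ)).obj R.cocomplex

variable {P : A} {P' : B} (u : P' ⟶ G.obj P)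

/-- The cochain of `G I` attached to a cochain of `I`. -/
def gm {M : A} (R : InjectiveResolution M) {q : ℕ} (z : P ⟶ R.cocomplex.X q) : P' ⟶ (GI G R).X q :=
  u ≫ G.map z

variable {M : A} (R : InjectiveResolution M) {q : ℕ}

theorem gm_add (z z' : P ⟶ R.cocomplex.X q) : gm G u R (z + z') = gm G u R z + gm G u R z' := by
  change u ≫ G.map (z + z') = u ≫ G.map z + u ≫ G.map z'
  rw [G.map_add, Preadditive.comp_add]

theorem gm_zero : gm G u R (0 : P ⟶ R.cocomplex.X q) = 0 := by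
  change u ≫ G.map (0 : P ⟶ R.cocomplex.X q) = 0
  rw [G.map_zero, comp_zero]

theorem gm_d (z : P ⟶ R.cocomplex.X q) (r : ℕ) :
    gm G u R (z ≫ R.cocomplex.d q r) = gm G u R z ≫ (GI G R).d q r := by
  change u ≫ G.map (z ≫ R.cocomplex.d q r) = (u ≫ G.map z) ≫ G.map (R.cocomplex.d q r)
  rw [G.map_comp, Category.assoc]

theorem cond (z : P ⟶ R.cocomplex.X q) (hz : z ≫ R.cocomplex.d q (q + 1) = 0) :
    gm G u R z ≫ (GI G R).d q (q + 1) = 0 := by
  rw [← gm_d, hz, gm_zero]

/-- The cycle of a cocycle. -/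
def kc (z : P ⟶ R.cocomplex.X q) (hz : z ≫ R.cocomplex.d q (q + 1) = 0) : P' ⟶ (GI G R).cycles q :=
  (GI G R).liftCycles (gm G u R z) (q + 1) (by simp) (cond G u R z hz)

theorem kc_i (z : P ⟶ R.cocomplex.X q) (hz : z ≫ R.cocomplex.d q (q + 1) = 0) :
    kc G u R z hz ≫ (GI G R).iCycles q = gm G u R z :=
  liftCycles_i _ _ _ _ _

/-- The class of a cocycle. -/
def kz (z : P ⟶ R.cocomplex.X q) (hz : z ≫ R.cocomplex.d q (q + 1) = 0) : P' ⟶ (GI G R).homology q :=
  kc G u R z hz ≫ (GI G R).homologyπ q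

theorem kc_add (z z' : P ⟶ R.cocomplex.X q) (hz : z ≫ R.cocomplex.d q (q + 1) = 0)
    (hz' : z' ≫ R.cocomplex.d q (q + 1) = 0) (h : (z + z') ≫ R.cocomplex.d q (q + 1) = 0) :
    kc G u R (z + z') h = kc G u R z hz + kc G u R z' hz' := by
  rw [← cancel_mono ((GI G R).iCycles q), Preadditive.add_comp, kc_i, kc_i, kc_i, gm_add]

theorem kz_add (z z' : P ⟶ R.cocomplex.X q) (hz : z ≫ R.cocomplex.d q (q + 1) = 0)
    (hz' : z' ≫ R.cocomplex.d q (q + 1) = 0) (h : (z + z') ≫ R.cocomplex.d q (q + 1) = 0) :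
    kz G u R (z + z') h = kz G u R z hz + kz G u R z' hz' := by
  rw [kz, kc_add G u R z z' hz hz', Preadditive.add_comp]
  rfl

theorem kz_zero (h : (0 : P ⟶ R.cocomplex.X q) ≫ R.cocomplex.d q (q + 1) = 0) : kz G u R 0 h = 0 := by
  have : kc G u R 0 h = 0 := by
    rw [← cancel_mono ((GI G R).iCycles q), kc_i, gm_zero, zero_comp]
  rw [kz, this, zero_comp]

theorem kc_boundary {p : ℕ} (y : P ⟶ R.cocomplex.X p)
    (h : (y ≫ R.cocomplex.d p (p + 1)) ≫ R.cocomplex.d (p + 1) (p + 1 + 1) = 0) :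
    kc G u R (y ≫ R.cocomplex.d p (p + 1)) h = gm G u R y ≫ (GI G R).toCycles p (p + 1) := by
  rw [← cancel_mono ((GI G R).iCycles (p + 1)), kc_i, Category.assoc, toCycles_i, gm_d]

theorem kz_boundary {p : ℕ} (y : P ⟶ R.cocomplex.X p)
    (h : (y ≫ R.cocomplex.d p (p + 1)) ≫ R.cocomplex.d (p + 1) (p + 1 + 1) = 0) :
    kz G u R (y ≫ R.cocomplex.d p (p + 1)) h = 0 := by
  rw [kz, kc_boundary, Category.assoc, toCycles_π _ _ _ rfl, comp_zero]

theorem kz_congr {z z' : P ⟶ R.cocomplex.X q} (e : z = z') (hz : z ≫ R.cocomplex.d q (q + 1) = 0)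
    (hz' : z' ≫ R.cocomplex.d q (q + 1) = 0) : kz G u R z hz = kz G u R z' hz' := by
  subst e; rfl

variable [HasExt.{w} A]

theorem eq_zero_of_extMk_zero (z : P ⟶ R.cocomplex.X 0)
    (hz : z ≫ R.cocomplex.d 0 1 = 0) (e : R.extMk z 1 rfl hz = 0) : z = 0 := by
  simp only [← R.extEquivCohomologyClass.apply_eq_iff_eq, InjectiveResolution.extEquivCohomologyClass_extMk,
    InjectiveResolution.extEquivCohomologyClass_zero, CochainComplex.HomComplex.CohomologyClass.mk_eq_zero_iff] at e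
  rw [CochainComplex.HomComplex.Cocycle.fromSingleMk_mem_coboundaries_iff _ _ _ _ _ (-1) (by lia)] at e
  obtain ⟨g, hg⟩ := e
  have h0 : IsZero (R.cochainComplex.X (-1)) := R.cochainComplex.isZero_of_isStrictlyGE 0 (-1) (by lia)
  have h1 : g = 0 := h0.eq_of_tgt _ _
  rw [h1, zero_comp] at hg
  rw [← cancel_mono (R.cochainComplexXIso 0 0 rfl).inv, zero_comp]
  exact hg.symm

theorem kz_eq_of_extMk_eq (z z' : P ⟶ R.cocomplex.X q)
    (hz : z ≫ R.cocomplex.d q (q + 1) = 0) (hz' : z' ≫ R.cocomplex.d q (q + 1) = 0)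
    (e : R.extMk z (q + 1) rfl hz = R.extMk z' (q + 1) rfl hz') : kz G u R z hz = kz G u R z' hz' := by
  have h1 : (z - z') ≫ R.cocomplex.d q (q + 1) = 0 := by rw [Preadditive.sub_comp, hz, hz', sub_zero]
  have h2 : R.extMk (z - z') (q + 1) rfl h1 = 0 := by rw [← R.sub_extMk z z' (q + 1) rfl hz hz', e, sub_self]
  have h3 : kz G u R (z - z') h1 = 0 := by
    cases q with
    | zero =>
      have h4 : z - z' = 0 := eq_zero_of_extMk_zero R _ h1 h2
      rw [kz_congr G u R h4 h1 (by simp), kz_zero]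
    | succ p =>
      obtain ⟨g, hg⟩ := (R.extMk_eq_zero_iff (z - z') (p + 1 + 1) rfl h1 p rfl).1 h2
      rw [kz_congr G u R hg.symm h1 (by rw [hg]; exact h1), kz_boundary]
  have h4 : kz G u R z hz = kz G u R ((z - z') + z') (by rw [sub_add_cancel]; exact hz) :=
    kz_congr G u R (by rw [sub_add_cancel]) _ _
  rw [h4, kz_add G u R _ _ h1 hz', h3, zero_add]

variable [HasInjectiveResolutions A] (M q)

/-- The edge map `Ext^q(P, M) ⟶ Hom(P', R^q G M)`. -/
def theta : Ext.{w} P M q →+ (P' ⟶ (G.rightDerived q).obj M) where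
  toFun x := kz G u (injectiveResolution M) ((injectiveResolution M).extMk_surjective x (q + 1) rfl).choose
    ((injectiveResolution M).extMk_surjective x (q + 1) rfl).choose_spec.choose ≫
      ((injectiveResolution M).isoRightDerivedObj G q).inv
  map_zero' := by
    let R := injectiveResolution M
    have h := (R.extMk_surjective (0 : Ext P M q) (q + 1) rfl).choose_spec.choose_spec
    have h2 := kz_eq_of_extMk_eq G u R _ 0 _ (by simp) (h.trans (R.extMk_zero (q + 1) rfl).symm)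
    exact (congrArg (fun t => t ≫ (R.isoRightDerivedObj G q).inv) (h2.trans (kz_zero G u R _))).trans zero_comp
  map_add' x y := by
    let R := injectiveResolution M
    have hx := (R.extMk_surjective x (q + 1) rfl).choose_spec.choose_spec
    have hy := (R.extMk_surjective y (q + 1) rfl).choose_spec.choose_spec
    have h := (R.extMk_surjective (x + y) (q + 1) rfl).choose_spec.choose_spec
    have hx0 := (R.extMk_surjective x (q + 1) rfl).choose_spec.choose
    have hy0 := (R.extMk_surjective y (q + 1) rfl).choose_spec.choose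
    have hs := R.add_extMk _ _ (q + 1) rfl hx0 hy0
    rw [hx, hy] at hs
    have h0 := (R.extMk_surjective (x + y) (q + 1) rfl).choose_spec.choose
    have h2 := kz_eq_of_extMk_eq G u R _ _ h0 (by rw [Preadditive.add_comp, hx0, hy0, add_zero]) (h.trans hs)
    rw [kz_add G u R _ _ hx0 hy0] at h2
    exact (congrArg (fun t => t ≫ (R.isoRightDerivedObj G q).inv) h2).trans (Preadditive.add_comp _ _ _ _ _ _)

variable {M q}

theorem theta_extMk₀ (z : P ⟶ (injectiveResolution M).cocomplex.X q)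
    (hz : z ≫ (injectiveResolution M).cocomplex.d q (q + 1) = 0) :
    theta G u M q ((injectiveResolution M).extMk z (q + 1) rfl hz) =
      kz G u (injectiveResolution M) z hz ≫ ((injectiveResolution M).isoRightDerivedObj G q).inv := by
  let R := injectiveResolution M
  have h := (R.extMk_surjective (R.extMk z (q + 1) rfl hz) (q + 1) rfl).choose_spec.choose_spec
  have h0 := (R.extMk_surjective (R.extMk z (q + 1) rfl hz) (q + 1) rfl).choose_spec.choose
  exact congrArg (fun t => t ≫ (R.isoRightDerivedObj G q).inv) (kz_eq_of_extMk_eq G u R _ _ h0 hz h)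

omit [HasExt.{w} A] [HasInjectiveResolutions A] in
/-- Naturality of the class of a cocycle. -/
theorem kz_map {N : A} {R : InjectiveResolution M} {R' : InjectiveResolution N}
    (ψ : R.cocomplex ⟶ R'.cocomplex) {q : ℕ} (z : P ⟶ R.cocomplex.X q)
    (hz : z ≫ R.cocomplex.d q (q + 1) = 0) (hz' : (z ≫ ψ.f q) ≫ R'.cocomplex.d q (q + 1) = 0) :
    kz G u R z hz ≫ homologyMap ((G.mapHomologicalComplex (ComplexShape.up ℕ)).map ψ) q =
      kz G u R' (z ≫ ψ.f q) hz' := by
  have h1 : kc G u R z hz ≫ cyclesMap ((G.mapHomologicalComplex (ComplexShape.up ℕ)).map ψ) q =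
      kc G u R' (z ≫ ψ.f q) hz' := by
    rw [← cancel_mono ((GI G R').iCycles q), kc_i, Category.assoc, cyclesMap_i, ← Category.assoc, kc_i]
    change (u ≫ G.map z) ≫ G.map (ψ.f q) = u ≫ G.map (z ≫ ψ.f q)
    rw [G.map_comp, Category.assoc]
  rw [kz, kz, ← h1, Category.assoc, Category.assoc, homologyπ_naturality]

/-- The edge map computed on an arbitrary injective resolution. -/
theorem theta_extMk {N : A} {φ : N ⟶ M} (R : InjectiveResolution N) (z : P ⟶ R.cocomplex.X q)
    (hz : z ≫ R.cocomplex.d q (q + 1) = 0) :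
    theta G u M q ((R.extMk z (q + 1) rfl hz).comp (Ext.mk₀ φ) (add_zero q)) =
      kz G u R z hz ≫ (R.isoRightDerivedObj G q).inv ≫ (G.rightDerived q).map φ := by
  let R' := injectiveResolution M
  let ψ : InjectiveResolution.Hom R R' φ :=
    { hom := InjectiveResolution.desc φ R' R
      ι_f_zero_comp_hom_f_zero := by
        rw [CochainComplex.single₀_map_f_zero]
        exact InjectiveResolution.desc_commutes_zero φ R' R }
  rw [InjectiveResolution.extMk_comp_mk₀ z (q + 1) rfl hz ψ]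
  have h1 : (z ≫ ψ.hom.f q) ≫ R'.cocomplex.d q (q + 1) = 0 := by
    rw [Category.assoc, ψ.hom.comm, ← Category.assoc, hz, zero_comp]
  refine (theta_extMk₀ G u (M := M) (z ≫ ψ.hom.f q) h1).trans ?_
  rw [← kz_map G u ψ.hom z hz h1, Category.assoc]
  congr 1
  exact (InjectiveResolution.isoRightDerivedObj_inv_naturality φ R R' ψ.hom
    (by simpa using! ψ.ι_f_zero_comp_hom_f_zero) G q).symm

theorem theta_extMk' (R : InjectiveResolution M) (z : P ⟶ R.cocomplex.X q)
    (hz : z ≫ R.cocomplex.d q (q + 1) = 0) :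
    theta G u M q (R.extMk z (q + 1) rfl hz) = kz G u R z hz ≫ (R.isoRightDerivedObj G q).inv := by
  have h := theta_extMk G u (φ := 𝟙 M) R z hz
  rwa [Ext.comp_mk₀_id, CategoryTheory.Functor.map_id, Category.comp_id] at h

/-- Naturality in `M`. -/
theorem theta_comp {N : A} (φ : M ⟶ N) (x : Ext.{w} P M q) :
    theta G u N q (x.comp (Ext.mk₀ φ) (add_zero q)) = theta G u M q x ≫ (G.rightDerived q).map φ := by
  obtain ⟨z, hz, rfl⟩ := (injectiveResolution M).extMk_surjective x (q + 1) rfl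
  rw [theta_extMk, theta_extMk', Category.assoc]

/-- Naturality in `u`. -/
theorem theta_precomp {P₁ : A} {P₁' : B} (u₁ : P₁' ⟶ G.obj P₁) (g : P₁ ⟶ P) (g' : P₁' ⟶ P')
    (h : g' ≫ u = u₁ ≫ G.map g) (x : Ext.{w} P M q) :
    theta G u₁ M q ((Ext.mk₀ g).comp x (zero_add q)) = g' ≫ theta G u M q x := by
  obtain ⟨z, hz, rfl⟩ := (injectiveResolution M).extMk_surjective x (q + 1) rfl
  have hz' : (g ≫ z) ≫ (injectiveResolution M).cocomplex.d q (q + 1) = 0 := by rw [Category.assoc, hz, comp_zero]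
  rw [(injectiveResolution M).mk₀_comp_extMk z (q + 1) rfl hz g]
  refine (theta_extMk' G u₁ (injectiveResolution M) (g ≫ z) hz').trans ?_
  rw [theta_extMk', ← Category.assoc]
  congr 1
  have h1 : kc G u₁ (injectiveResolution M) (g ≫ z) hz' = g' ≫ kc G u (injectiveResolution M) z hz := by
    rw [← cancel_mono ((GI G (injectiveResolution M)).iCycles q), kc_i, Category.assoc, kc_i]
    change u₁ ≫ G.map (g ≫ z) = g' ≫ u ≫ G.map z
    rw [G.map_comp, ← Category.assoc, ← h, Category.assoc]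
  rw [kz, h1, Category.assoc]
  rfl

omit [HasExt.{w} A] [HasInjectiveResolutions A] in
theorem eq_zero_of_comp_inv {X Y Z : B} (e : Y ≅ Z) (f : X ⟶ Z) (h : f ≫ e.inv = 0) : f = 0 := by
  rw [← cancel_mono e.inv, h, zero_comp]

section Bij

variable (hu : ∀ N : A, Function.Bijective (fun z : P ⟶ N => u ≫ G.map z))

include hu

omit [HasExt.{w} A] [HasInjectiveResolutions A] in
theorem exists_gm (R : InjectiveResolution M) (y : P' ⟶ (GI G R).X q) :
    ∃ z : P ⟶ R.cocomplex.X q, gm G u R z = y := (hu (R.cocomplex.X q)).2 y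

omit [HasExt.{w} A] [HasInjectiveResolutions A] in
theorem gm_injective (R : InjectiveResolution M) {z z' : P ⟶ R.cocomplex.X q} (h : gm G u R z = gm G u R z') :
    z = z' := (hu (R.cocomplex.X q)).1 h

omit [HasExt.{w} A] [HasInjectiveResolutions A] in
theorem exists_cocycle (R : InjectiveResolution M) (c : P' ⟶ (GI G R).cycles q) :
    ∃ (z : P ⟶ R.cocomplex.X q) (hz : z ≫ R.cocomplex.d q (q + 1) = 0), kc G u R z hz = c := by
  obtain ⟨z, hz⟩ := exists_gm G u hu R (c ≫ (GI G R).iCycles q)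
  have h1 : z ≫ R.cocomplex.d q (q + 1) = 0 := by
    apply gm_injective G u hu R
    rw [gm_d, hz, Category.assoc, (GI G R).iCycles_d, comp_zero, gm_zero]
  exact ⟨z, h1, by rw [← cancel_mono ((GI G R).iCycles q), kc_i, hz]⟩

omit [HasInjectiveResolutions A] in
theorem extMk_eq_zero_of_boundary (R : InjectiveResolution M) {p : ℕ} (z : P ⟶ R.cocomplex.X (p + 1))
    (hz : z ≫ R.cocomplex.d (p + 1) (p + 1 + 1) = 0) (y : P' ⟶ (GI G R).X p)
    (hy : y ≫ (GI G R).toCycles p (p + 1) = kc G u R z hz) : R.extMk z (p + 1 + 1) rfl hz = 0 := by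
  obtain ⟨y', hy'⟩ := exists_gm G u hu R y
  refine (R.extMk_eq_zero_iff z (p + 1 + 1) rfl hz p rfl).2 ⟨y', ?_⟩
  apply gm_injective G u hu R
  rw [← kc_i G u R z hz, ← hy, Category.assoc, toCycles_i, gm_d, hy']

variable [HasExt.{w'} B] (hI : ∀ I : A, Injective I → Ac.{w'} P' (G.obj I))
  (hR : ∀ j : ℕ, Ac.{w'} P' ((G.rightDerived j).obj M))

include hI hR

/-- The edge map is bijective if `P'` is acyclic for the `R^j G M` and the `G I`. -/
theorem theta_bijective : Function.Bijective (theta G u M q) := by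
  let R := injectiveResolution M
  have hK : ∀ n, Ac.{w'} P' ((GI G R).X n) := fun n => hI _ (R.injective n)
  have hH : ∀ n, Ac.{w'} P' ((GI G R).homology n) := fun n => ac_of_iso (R.isoRightDerivedObj G n) (hR n)
  refine ⟨?_, fun s => ?_⟩
  · rw [injective_iff_map_eq_zero]
    intro x hx
    obtain ⟨z, hz, rfl⟩ := R.extMk_surjective x (q + 1) rfl
    rw [theta_extMk' G u R z hz] at hx
    have h1 : kc G u R z hz ≫ (GI G R).homologyπ q = 0 := by
      have h2 : kz G u R z hz = 0 := (eq_zero_of_comp_inv _ _ hx)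
      exact h2
    cases q with
    | zero =>
      have h3 := isIso_π_zero (GI G R)
      have h4 : kc G u R z hz = 0 := by rw [← cancel_mono ((GI G R).homologyπ 0), h1, zero_comp]
      have h5 : z = 0 := by
        apply gm_injective G u hu R
        rw [← kc_i G u R z hz, h4, zero_comp, gm_zero]
      subst h5
      exact R.extMk_zero 1 rfl
    | succ p =>
      obtain ⟨y, hy⟩ := exists_boundary (GI G R) hK hH p (p + 1) rfl (kc G u R z hz) h1
      exact extMk_eq_zero_of_boundary G u hu R z hz y hy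
  · obtain ⟨c, hc⟩ := exists_lift_cycles (GI G R) hK hH q (s ≫ (R.isoRightDerivedObj G q).hom)
    obtain ⟨z, hz, rfl⟩ := exists_cocycle G u hu R c
    refine ⟨R.extMk z (q + 1) rfl hz, ?_⟩
    rw [theta_extMk' G u R z hz, kz, hc, Category.assoc, Iso.hom_inv_id, Category.comp_id]

end Bij

end Theta

end K178.EdgeAb
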