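import Groth.Prelude.Def_FSch4
import Groth.Agent.Fcompl.H552.IdealSpec

/-!
# The completion of `Spec A` along `idealSpec A J` is `spf A J`
-/

set_option autoImplicit false
universe u
set_option maxHeartbeats 400000

open CategoryTheory CategoryTheory.Limits AlgebraicGeometry Opposite

namespace K178.SpfCompl

open Groth.Agent.Fcompl.H552.IdealSpec

variable (A : Type u) [CommRing A] (J : Ideal A)

theorem idealSpec_pow (n : ℕ) : (FSch.idealSpec A J) ^ n = FSch.idealSpec A (J ^ n) := by
  apply Scheme.IdealSheafData.ext_of_isAffine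
  have h1 := ideal_idealSpec_pow_top A J n
  have h2 := ideal_idealSpec_top A (J ^ n)
  exact h1.trans h2.symm

/-- the completion of `Spec A` along `J` -/
noncomputable abbrev cA : FSch.Sys.{u} := FSch.completionAlong (Spec (CommRingCat.of A)) (FSch.idealSpec A J)

noncomputable abbrev cι (n : ℕ) : (cA A J).X n ⟶ Spec (CommRingCat.of A) :=
  FSch.completionToX _ (FSch.idealSpec A J) n

theorem cι_trans (n : ℕ) : (cA A J).ι n ≫ cι A J (n + 1) = cι A J n :=
  Scheme.IdealSheafData.inclusion_subschemeι _

instance isClosedImmersion_cι (n : ℕ) : IsClosedImmersion (cι A J n) :=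
  inferInstanceAs (IsClosedImmersion ((FSch.idealSpec A J) ^ (n + 1)).subschemeι)

instance mono_cι (n : ℕ) : Mono (cι A J n) :=
  inferInstanceAs (Mono ((FSch.idealSpec A J) ^ (n + 1)).subschemeι)

theorem isClosedImmersion_specQuot (n : ℕ) : IsClosedImmersion (CohB1.specQuot J n) :=
  IsClosedImmersion.spec_of_surjective _ Ideal.Quotient.mk_surjective

/-- `Spec (A / J^(n+1)) ⟶ Spec A`, seen on the level of `spf`. -/
noncomputable def sι (n : ℕ) : (FSch.spf A J).X n ⟶ Spec (CommRingCat.of A) := CohB1.specQuot J n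

instance isClosedImmersion_sι (n : ℕ) : IsClosedImmersion (sι A J n) := isClosedImmersion_specQuot A J n

instance mono_sι (n : ℕ) : Mono (sι A J n) := by
  have : IsClosedImmersion (sι A J n) := isClosedImmersion_sι A J n
  infer_instance

theorem sι_trans (n : ℕ) : (FSch.spf A J).ι n ≫ sι A J (n + 1) = sι A J n :=
  CohB1.specQuotTrans_specQuot J n

theorem ker_cι (n : ℕ) : (cι A J n).ker = (sι A J n).ker := by
  change ((FSch.idealSpec A J) ^ (n + 1)).subschemeι.ker = _
  rw [Scheme.IdealSheafData.ker_subschemeι, idealSpec_pow]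
  rfl

/-- `Spec (A / J^(n+1))` is the closed subscheme of `Spec A` cut out by `(idealSpec A J)^(n+1)`. -/
noncomputable def lev (n : ℕ) : (FSch.spf A J).X n ⟶ (cA A J).X n :=
  IsClosedImmersion.lift (cι A J n) (sι A J n) (ker_cι A J n).le

theorem lev_ι (n : ℕ) : lev A J n ≫ cι A J n = sι A J n :=
  IsClosedImmersion.lift_fac _ _ _

noncomputable def levInv (n : ℕ) : (cA A J).X n ⟶ (FSch.spf A J).X n :=
  IsClosedImmersion.lift (sι A J n) (cι A J n) (ker_cι A J n).ge

theorem levInv_ι (n : ℕ) : levInv A J n ≫ sι A J n = cι A J n :=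
  IsClosedImmersion.lift_fac _ _ _

theorem lev_levInv (n : ℕ) : lev A J n ≫ levInv A J n = 𝟙 _ := by
  rw [← cancel_mono (sι A J n), Category.assoc, levInv_ι, lev_ι, Category.id_comp]

theorem levInv_lev (n : ℕ) : levInv A J n ≫ lev A J n = 𝟙 _ := by
  rw [← cancel_mono (cι A J n), Category.assoc, lev_ι, levInv_ι, Category.id_comp]

theorem lev_trans (n : ℕ) : lev A J n ≫ (cA A J).ι n = (FSch.spf A J).ι n ≫ lev A J (n + 1) := by
  rw [← cancel_mono (cι A J (n + 1)), Category.assoc, Category.assoc, lev_ι, cι_trans, lev_ι]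
  exact (sι_trans A J n).symm

theorem levInv_trans (n : ℕ) : levInv A J n ≫ (FSch.spf A J).ι n = (cA A J).ι n ≫ levInv A J (n + 1) := by
  rw [← cancel_mono (sι A J (n + 1)), Category.assoc, Category.assoc, levInv_ι, cι_trans]
  rw [sι_trans, levInv_ι]

/-- The formal spectrum of `A` as a system of closed subschemes of `Spec A`. -/
noncomputable def isoSpf : FSch.spf A J ≅ cA A J where
  hom := ⟨fun n => lev A J n, fun n => lev_trans A J n⟩
  inv := ⟨fun n => levInv A J n, fun n => levInv_trans A J n⟩
  hom_inv_id := FSch.Hom.ext (funext fun n => lev_levInv A J n)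
  inv_hom_id := FSch.Hom.ext (funext fun n => levInv_lev A J n)

end K178.SpfCompl
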