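import Groth.Agent.Grpsch.ConormalBC
import Groth.Agent.PerfC.FlatExact
import Groth.Agent.PerfB.TildeExact
import Groth.Agent.Smoothlim.OmegaAffine
import Groth.Agent.Fga.HShift
import Groth.Agent.Dcoh.StalkMod
import Groth.Agent.Sga2.PicThick
import Groth.Agent.Dual.H370.PullKill
import Groth.Agent.PerfC.TildePush
import Groth.Agent.Fcompl.H545.SysBasic
import Groth.Agent.Fcompl.H545.SpecKer
import Groth.Agent.FSch.K178.SpfCompl

/-!
# Lifting invertible modules along a flat adic system when `H² = 0`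
-/

set_option autoImplicit false
universe u
set_option maxHeartbeats 400000

open CategoryTheory CategoryTheory.Limits AlgebraicGeometry Opposite

namespace K178.H2Lift

section dev

variable {B : Type u} [CommRing B] [IsLocalRing B] (P : ModuleCat.{u} B → Prop)

/-- cyclic modules killed by the maximal ideal -/
theorem dev_cyclic (h0 : ∀ M : ModuleCat.{u} B, Subsingleton M → P M)
    (hk : P (ModuleCat.of B (B ⧸ IsLocalRing.maximalIdeal B)))
    (hiso : ∀ M N : ModuleCat.{u} B, (M ≅ N) → P M → P N)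
    (M : ModuleCat.{u} B) (hM : ∀ a ∈ IsLocalRing.maximalIdeal B, ∀ x : M, a • x = 0) (x : M) :
    P (ModuleCat.of B (Submodule.span B {x})) := by
  by_cases hx : x = 0
  · apply h0
    rw [hx, Submodule.span_zero_singleton]
    change Subsingleton (⊥ : Submodule B M)
    infer_instance
  · have hker : LinearMap.ker (LinearMap.toSpanSingleton B M x) = IsLocalRing.maximalIdeal B := by
      have h1 : IsLocalRing.maximalIdeal B ≤ LinearMap.ker (LinearMap.toSpanSingleton B M x) := by
        intro a ha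
        rw [LinearMap.mem_ker, LinearMap.toSpanSingleton_apply]
        exact hM a ha x
      refine ((IsLocalRing.maximalIdeal.isMaximal B).eq_of_le ?_ h1).symm
      intro h
      apply hx
      have h2 : (1 : B) ∈ LinearMap.ker (LinearMap.toSpanSingleton B M x) := by
        rw [h]; trivial
      rw [LinearMap.mem_ker, LinearMap.toSpanSingleton_apply, one_smul] at h2
      exact h2
    have e : (B ⧸ IsLocalRing.maximalIdeal B) ≃ₗ[B] (Submodule.span B {x}) :=
      (Submodule.quotEquivOfEq _ _ hker.symm).trans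
        ((LinearMap.quotKerEquivRange _).trans
          (LinearEquiv.ofEq _ _ (LinearMap.range_toSpanSingleton x)))
    exact hiso _ _ e.toModuleIso hk

theorem dev (h0 : ∀ M : ModuleCat.{u} B, Subsingleton M → P M)
    (hk : P (ModuleCat.of B (B ⧸ IsLocalRing.maximalIdeal B)))
    (hiso : ∀ M N : ModuleCat.{u} B, (M ≅ N) → P M → P N)
    (hext : ∀ S : ShortComplex (ModuleCat.{u} B), S.ShortExact → P S.X₁ → P S.X₃ → P S.X₂) (n : ℕ) :
    ∀ (M : ModuleCat.{u} B) (_ : ∀ a ∈ IsLocalRing.maximalIdeal B, ∀ x : M, a • x = 0)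
      (s : Fin n → M) (_ : Submodule.span B (Set.range s) = ⊤), P M := by
  induction n with
  | zero =>
    intro M _ s hs
    apply h0
    rw [Set.range_eq_empty, Submodule.span_empty] at hs
    exact (Submodule.subsingleton_iff B).1 (subsingleton_of_bot_eq_top hs)
  | succ n ih =>
    intro M hM s hs
    let N : Submodule B M := Submodule.span B {s 0}
    let S : ShortComplex (ModuleCat.{u} B) :=
      ShortComplex.mk (ModuleCat.ofHom N.subtype) (ModuleCat.ofHom N.mkQ) (by
        ext x
        exact (Submodule.Quotient.mk_eq_zero N).2 x.2)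
    have hS : S.ShortExact := by
      refine ShortComplex.ShortExact.mk' ?_ ?_ ?_
      · rw [ShortComplex.moduleCat_exact_iff]
        intro x hx
        exact ⟨⟨x, (Submodule.Quotient.mk_eq_zero N).1 hx⟩, rfl⟩
      · rw [ModuleCat.mono_iff_injective]
        exact Subtype.val_injective
      · rw [ModuleCat.epi_iff_surjective]
        exact Submodule.mkQ_surjective N
    refine hext S hS (dev_cyclic P h0 hk hiso M hM (s 0)) ?_
    refine ih (ModuleCat.of B (M ⧸ N)) ?_ (fun i => N.mkQ (s i.succ)) ?_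
    · intro a ha x
      obtain ⟨x, rfl⟩ := Submodule.mkQ_surjective N x
      rw [← map_smul, hM a ha x, map_zero]
    · have h1 : Submodule.map N.mkQ (Submodule.span B (Set.range s)) = ⊤ := by
        rw [hs, Submodule.map_top, Submodule.range_mkQ]
      rw [eq_top_iff]
      refine h1.ge.trans ?_
      rw [Submodule.map_span, Submodule.span_le]
      rintro _ ⟨_, ⟨i, rfl⟩, rfl⟩
      refine Fin.cases ?_ (fun i => ?_) i
      · have : N.mkQ (s 0) = 0 := (Submodule.Quotient.mk_eq_zero N).2 (Submodule.mem_span_singleton_self _)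
        rw [this]
        exact Submodule.zero_mem _
      · exact Submodule.subset_span ⟨i, rfl⟩

theorem dev_finite (h0 : ∀ M : ModuleCat.{u} B, Subsingleton M → P M)
    (hk : P (ModuleCat.of B (B ⧸ IsLocalRing.maximalIdeal B)))
    (hiso : ∀ M N : ModuleCat.{u} B, (M ≅ N) → P M → P N)
    (hext : ∀ S : ShortComplex (ModuleCat.{u} B), S.ShortExact → P S.X₁ → P S.X₃ → P S.X₂)
    (M : ModuleCat.{u} B) [Module.Finite B M] (hM : ∀ a ∈ IsLocalRing.maximalIdeal B, ∀ x : M, a • x = 0) :
    P M := by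
  obtain ⟨n, s, hs⟩ := Module.Finite.exists_fin (R := B) (M := M)
  exact dev P h0 hk hiso hext n M hM s hs

end dev

section geom

variable {B : CommRingCat.{u}} {X : Scheme.{u}} (f : X ⟶ Spec B)

/-- the module `f^* M~` -/
noncomputable abbrev pt (M : ModuleCat.{u} B) : X.Modules :=
  (Scheme.Modules.pullback f).obj ((tilde.functor B).obj M)

theorem subsingleton_of_iso {M N : X.Modules} (e : M ≅ N) (q : ℕ) (h : Subsingleton (Coh.HH X M q)) :
    Subsingleton (Coh.HH X N q) :=
  Groth.Agent.Sga2.ThickCoh.subsingleton_HH_of_iso e q h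

/-- dévissage for the cohomology of `f^* M~` over a local base -/
theorem van_of_killed [IsLocalRing B] [Flat f] (q : ℕ)
    (h : Subsingleton (Coh.HH X (pt f (ModuleCat.of B (B ⧸ IsLocalRing.maximalIdeal B))) q))
    (M : ModuleCat.{u} B) [Module.Finite B M] (hM : ∀ a ∈ IsLocalRing.maximalIdeal B, ∀ x : M, a • x = 0) :
    Subsingleton (Coh.HH X (pt f M) q) := by
  have hp : PreservesFiniteLimits (Scheme.Modules.pullback f) := Groth.Agent.PerfC.FlatExact.preservesFiniteLimits_pullback f
  have ht : PreservesFiniteLimits (tilde.functor B) := Groth.Agent.PerfB.TildeExact.preservesFiniteLimits_tilde B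
  have ht' : PreservesColimits (tilde.functor B) := tilde.adjunction.leftAdjoint_preservesColimits
  let F : ModuleCat.{u} B ⥤ X.Modules := tilde.functor B ⋙ Scheme.Modules.pullback f
  have hF : PreservesFiniteLimits F := comp_preservesFiniteLimits _ _
  have hF' : PreservesFiniteColimits F := comp_preservesFiniteColimits _ _
  have hadd : F.Additive := inferInstance
  refine dev_finite (fun M => Subsingleton (Coh.HH X (pt f M) q)) ?_ h ?_ ?_ M hM
  · intro M hM
    have h1 : IsZero M := ModuleCat.isZero_of_subsingleton M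
    exact Groth.Agent.Fga.HShift.subsingleton_of_isZero (F.map_isZero h1) q
  · intro M N e hM
    exact subsingleton_of_iso (F.mapIso e) q hM
  · intro S hS h1 h3
    exact Groth.Agent.Fga.HShift.subsingleton₂ (hS.map_of_exact F) q h1 h3

/-- the quotient of a ring by the kernel of a surjection, as a module -/
noncomputable def quotIso {B K : CommRingCat.{u}} (φ : B ⟶ K) (hφ : Function.Surjective φ.hom) (I : Ideal B)
    (hI : RingHom.ker φ.hom = I) :
    ModuleCat.of B (B ⧸ I) ≅ (ModuleCat.restrictScalars φ.hom).obj (ModuleCat.of K K) := by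
  let l : B →ₗ[B] ((ModuleCat.restrictScalars φ.hom).obj (ModuleCat.of K K)) :=
    { toFun := fun b => φ.hom b
      map_add' := fun a b => map_add φ.hom a b
      map_smul' := fun a b => map_mul φ.hom a b }
  have hl : Function.Surjective l := hφ
  have hk : LinearMap.ker l = I := by
    rw [← hI]
    rfl
  exact ((Submodule.quotEquivOfEq _ _ hk.symm).trans (l.quotKerEquivOfSurjective hl)).toModuleIso

/-- cohomology of `f^* κ~` is the cohomology of the fibre -/
theorem van_fibre {B K : CommRingCat.{u}} {X X₀ : Scheme.{u}} (f : X ⟶ Spec B) (φ : B ⟶ K)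
    (hφ : Function.Surjective φ.hom) (f₀ : X₀ ⟶ Spec K) (i₀ : X₀ ⟶ X)
    (hsq : IsPullback i₀ f₀ f (Spec.map φ)) (I : Ideal B) (hI : RingHom.ker φ.hom = I) (q : ℕ)
    (h : Subsingleton (Coh.HH X₀ (Coh.structureModule X₀) q)) :
    Subsingleton (Coh.HH X (pt f (ModuleCat.of B (B ⧸ I))) q) := by
  have hc : IsClosedImmersion (Spec.map φ) := IsClosedImmersion.spec_of_surjective φ hφ
  have hc' : IsClosedImmersion i₀ := MorphismProperty.of_isPullback hsq.flip hc
  have h1 := Groth.Agent.Sga2.PicThick.subsingleton_HH_pushforward i₀ _ q h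
  obtain ⟨e⟩ := Groth.Agent.Dual.H370.PullKill.nonempty_pull_push hsq.flip
  refine subsingleton_of_iso ?_ q h1
  refine e.symm ≪≫ (Scheme.Modules.pullback f).mapIso ?_
  exact (Groth.Agent.PerfC.TildePush.tildePushIso φ).app (ModuleCat.of K K) ≪≫
    (tilde.functor B).mapIso (quotIso φ hφ I hI).symm

end geom

section ker

open Groth.Agent.Grpsch.ConormalStalk

variable {Z X Z' X' : Scheme.{u}} {i : Z ⟶ X} {i' : Z' ⟶ X'} {g : X' ⟶ X} {h : Z' ⟶ Z}

theorem isIso_psi (H : IsPullback i' h g i) [IsClosedImmersion i] (hs : Function.Surjective i'.base)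
    [Flat g] : IsIso (psi H.w) := by
  apply Groth.Agent.Dcoh.StalkMod.isIso_of_bijective
  intro x
  obtain ⟨z, rfl⟩ := hs x
  exact ⟨Groth.Agent.Grpsch.ConormalBC.stalkLin_psi_injective_of_flat H.w _,
    Groth.Agent.Grpsch.ConormalBC.stalkLin_psi_surjective H z⟩

end ker

theorem comap_bot {X Y : Scheme.{u}} (f : X ⟶ Y) : (⊥ : Y.IdealSheafData).comap f = ⊥ := by
  rw [eq_bot_iff, ← Scheme.IdealSheafData.le_map_iff_comap_le]
  exact bot_le

theorem sq_zero {B C : CommRingCat.{u}} {X Z : Scheme.{u}} (f : X ⟶ Spec B)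
    (φ : B ⟶ C) (hφ : Function.Surjective φ.hom)
    (hk : ∀ a ∈ RingHom.ker φ.hom, ∀ b ∈ RingHom.ker φ.hom, a * b = 0) (fZ : Z ⟶ Spec C) (i : Z ⟶ X)
    (hsq : IsPullback i fZ f (Spec.map φ)) : i.ker ^ 2 = ⊥ := by
  have hc : IsClosedImmersion (Spec.map φ) := IsClosedImmersion.spec_of_surjective φ hφ
  rw [Groth.Agent.Fcompl.H545.SysBasic.ker_fst_of_isPullback hsq, ← Groth.Agent.Divis.IdealComap.comap_pow]
  have h1 : (Spec.map φ).ker ^ 2 = ⊥ := by
    apply Scheme.IdealSheafData.ext_of_isAffine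
    rw [Scheme.IdealSheafData.ideal_pow, Pi.pow_apply, Scheme.IdealSheafData.ideal_bot, Pi.bot_apply]
    have h2 := Groth.Agent.Fcompl.H545.SpecKer.ideal_top_ker_specMap φ
    refine (congrArg (· ^ 2) h2).trans ?_
    rw [← Ideal.map_pow, show RingHom.ker φ.hom ^ 2 = ⊥ by
      rw [pow_two, eq_bot_iff, Ideal.mul_le]
      exact fun a ha b hb => hk a ha b hb, Ideal.map_bot]
  rw [h1, comap_bot]

/-- One step of lifting an invertible module. -/
theorem step {B K C : CommRingCat.{u}} [IsLocalRing B] [IsNoetherianRing B] {X X₀ Z : Scheme.{u}}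
    (f : X ⟶ Spec B) [Flat f] (φ₀ : B ⟶ K) (hφ₀ : Function.Surjective φ₀.hom)
    (hk₀ : RingHom.ker φ₀.hom = IsLocalRing.maximalIdeal B) (f₀ : X₀ ⟶ Spec K) (i₀ : X₀ ⟶ X)
    (hsq₀ : IsPullback i₀ f₀ f (Spec.map φ₀)) (φ : B ⟶ C) (hφ : Function.Surjective φ.hom)
    (hk : ∀ a ∈ IsLocalRing.maximalIdeal B, ∀ b ∈ RingHom.ker φ.hom, a * b = 0)
    (hk1 : RingHom.ker φ.hom ≤ IsLocalRing.maximalIdeal B) (fZ : Z ⟶ Spec C) (i : Z ⟶ X)
    (hsq : IsPullback i fZ f (Spec.map φ)) (hs : Function.Surjective i.base)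
    (h : Subsingleton (Coh.HH X₀ (Coh.structureModule X₀) 2)) (L₀ : Z.Modules) (hL₀ : PicF.IsInvertible L₀) :
    ∃ L : X.Modules, PicF.IsInvertible L ∧ Nonempty ((Scheme.Modules.pullback i).obj L ≅ L₀) := by
  have hc : IsClosedImmersion (Spec.map φ) := IsClosedImmersion.spec_of_surjective φ hφ
  have hc' : IsClosedImmersion i := MorphismProperty.of_isPullback hsq.flip hc
  refine Groth.Agent.Sga2.PicThick.lift_of_H2 i
    (sq_zero f φ hφ (fun a ha b hb => hk a (hk1 ha) b hb) fZ i hsq) ?_ L₀ hL₀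
  have h1 := van_fibre f φ₀ hφ₀ f₀ i₀ hsq₀ _ hk₀ 2 h
  have h2 := van_of_killed f 2 h1 (ModuleCat.of B (RingHom.ker φ.hom)) (fun a ha x =>
    Subtype.ext (hk a ha x.1 x.2))
  refine subsingleton_of_iso ?_ 2 h2
  exact (Scheme.Modules.pullback f).mapIso (Groth.Agent.Smoothlim.OmegaAffine.kernelTildeIso φ) ≪≫
    @asIso _ _ _ _ _ (isIso_psi hsq hs)

end K178.H2Lift
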