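import Groth.Agent.FSch.K178.SpfCompl
import Groth.Agent.S3862

/-!
# A system whose levels are the base changes of a scheme is a completion
-/

set_option autoImplicit false
universe u
set_option maxHeartbeats 400000

open CategoryTheory CategoryTheory.Limits AlgebraicGeometry Opposite

namespace K178.IsoCompl

theorem powCompat {X S : Scheme.{u}} (g : X ⟶ S) (𝓚 : S.IdealSheafData) :
    FSch.PowCompat g (𝓚.comap g) 𝓚 := fun n => by
  rw [Groth.Agent.Divis.IdealComap.comap_pow]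

section

variable {X S : Scheme.{u}} (g : X ⟶ S) (𝓚 : S.IdealSheafData) (h : FSch.PowCompat g (𝓚.comap g) 𝓚)
  (𝔛 : FSch.Sys.{u}) (f : 𝔛 ⟶ FSch.completionAlong S 𝓚) (e : ∀ n, 𝔛.X n ⟶ X)
  (hp : ∀ n, IsPullback (e n) ((f : FSch.Hom _ _).app n) g (FSch.completionToX S 𝓚 n))
  (he : ∀ n, 𝔛.ι n ≫ e (n + 1) = e n)

/-- the pullback square of the completion -/
theorem sq (n : ℕ) : IsPullback (FSch.completionToX X (𝓚.comap g) n)
    ((FSch.completionMap g (𝓚.comap g) 𝓚 h : FSch.Hom _ _).app n) g (FSch.completionToX S 𝓚 n) :=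
  (Groth.Agent.S3862.result g 𝓚 h).1 n

include hp he in
/-- A system over the completion of `S` whose levels are the base changes of `X` is the completion of `X`. -/
theorem exists_iso : ∃ ε : 𝔛 ≅ FSch.completionAlong X (𝓚.comap g),
    ε.hom ≫ FSch.completionMap g (𝓚.comap g) 𝓚 h = f := by
  let i : ∀ n, 𝔛.X n ≅ (FSch.completionAlong X (𝓚.comap g)).X n := fun n =>
    (hp n).isoIsPullback _ _ (sq g 𝓚 h n)
  have i1 : ∀ n, (i n).hom ≫ FSch.completionToX X (𝓚.comap g) n = e n := fun n =>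
    (hp n).isoIsPullback_hom_fst _ _ (sq g 𝓚 h n)
  have i2 : ∀ n, (i n).hom ≫ (FSch.completionMap g (𝓚.comap g) 𝓚 h : FSch.Hom _ _).app n =
      (f : FSch.Hom _ _).app n := fun n =>
    (hp n).isoIsPullback_hom_snd _ _ (sq g 𝓚 h n)
  have c1 : ∀ n, (FSch.completionAlong X (𝓚.comap g)).ι n ≫ FSch.completionToX X (𝓚.comap g) (n + 1) =
      FSch.completionToX X (𝓚.comap g) n := fun n => Scheme.IdealSheafData.inclusion_subschemeι _
  have comm : ∀ n, (i n).hom ≫ (FSch.completionAlong X (𝓚.comap g)).ι n = 𝔛.ι n ≫ (i (n + 1)).hom := by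
    intro n
    apply (sq g 𝓚 h (n + 1)).hom_ext
    · rw [Category.assoc, Category.assoc, c1, i1, i1, he]
    · rw [Category.assoc, Category.assoc, i2, ← (f : FSch.Hom _ _).comm n,
        ← (FSch.completionMap g (𝓚.comap g) 𝓚 h : FSch.Hom _ _).comm n, ← Category.assoc, i2]
  have comm' : ∀ n, (i n).inv ≫ 𝔛.ι n = (FSch.completionAlong X (𝓚.comap g)).ι n ≫ (i (n + 1)).inv := by
    intro n
    rw [Iso.inv_comp_eq, ← Category.assoc, Iso.eq_comp_inv]
    exact (comm n).symm
  refine ⟨⟨⟨fun n => (i n).hom, comm⟩, ⟨fun n => (i n).inv, comm'⟩,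
    FSch.Hom.ext (funext fun n => (i n).hom_inv_id), FSch.Hom.ext (funext fun n => (i n).inv_hom_id)⟩, ?_⟩
  exact FSch.Hom.ext (funext fun n => i2 n)

end

end K178.IsoCompl
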