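import Groth.Agent.FSch.K178.EdgeAb
import Groth.Agent.SiteCmp.K578.LerayPush
import Groth.Agent.FCompl.K29.RSec
import Groth.Prelude.Def_CohTop

/-!
# The map `H^q(f⁻¹ V, F) ⟶ Γ(V, R^q f_* F)` for sheaves of modules

For a morphism of ringed sites `f`:

* `tE f V F q : Ext^q(P(f V), F) →+ Hom(P(V), R^q f_* F)`, natural in `V` and `F`;
* `tE_loc_inj`, `tE_loc_surj`: it is locally injective and locally surjective;
* `tE_bijective`: bijective if `V` is acyclic for all `R^j f_* F`.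

For ringed spaces:

* `th f V F q : HU O₁ F q (f⁻¹V) →+ Sec (R^q f_* F) V`, `th_map`, `th_res`, `th_loc_inj`, `th_loc_surj`, `th_bijective`.
-/

set_option autoImplicit false
set_option linter.style.haveILetI false

universe w w' u

open CategoryTheory CategoryTheory.Limits CategoryTheory.Abelian HomologicalComplex Opposite TopologicalSpace

noncomputable section

namespace K178.Theta

open K178.EdgeAb K578.ModTest K578.PushComp Groth.Agent.CohtopB

section Site

variable {C : Type u} [SmallCategory C] {J : GrothendieckTopology C} {O_C : Sheaf J CommRingCat.{u}}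
    {D : Type u} [SmallCategory D] {K : GrothendieckTopology D} {O_D : Sheaf K CommRingCat.{u}}
    (f : ModSite.RMor O_C O_D) [HasExt.{w} (ModSite.Mod O_C)] [HasInjectiveResolutions (ModSite.Mod O_C)]

/-- The edge map. -/
def tE (V : D) (F : ModSite.Mod O_C) (q : ℕ) :
    Ext.{w} ((PO O_C).obj (f.fn.obj V)) F q →+ ((PO O_D).obj V ⟶ (f.Rpush q).obj F) :=
  theta f.push (uV f V) F q

theorem tE_comp (V : D) {F G : ModSite.Mod O_C} (φ : F ⟶ G) (q : ℕ) (x : Ext.{w} ((PO O_C).obj (f.fn.obj V)) F q) :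
    tE f V G q (x.comp (Ext.mk₀ φ) (add_zero q)) = tE f V F q x ≫ (f.Rpush q).map φ :=
  theta_comp f.push (uV f V) φ x

theorem tE_precomp {V W : D} (g : W ⟶ V) (F : ModSite.Mod O_C) (q : ℕ)
    (x : Ext.{w} ((PO O_C).obj (f.fn.obj V)) F q) :
    tE f W F q ((Ext.mk₀ ((PO O_C).map (f.fn.map g))).comp x (zero_add q)) = (PO O_D).map g ≫ tE f V F q x :=
  theta_precomp f.push (uV f V) (uV f W) _ _ (uV_nat f g) x

/-- Local injectivity. -/
theorem tE_loc_inj (V : D) (F : ModSite.Mod O_C) (q : ℕ) (x : Ext.{w} ((PO O_C).obj (f.fn.obj V)) F q)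
    (hx : tE f V F q x = 0) :
    ∃ T ∈ K V, ∀ {W : D} (g : W ⟶ V), T g → (Ext.mk₀ ((PO O_C).map (f.fn.map g))).comp x (zero_add q) = 0 := by
  let R := injectiveResolution F
  obtain ⟨z, hz, rfl⟩ := R.extMk_surjective x (q + 1) rfl
  have hx' : kz f.push (uV f V) R z hz ≫ (R.isoRightDerivedObj f.push q).inv = 0 :=
    (theta_extMk' f.push (uV f V) R z hz).symm.trans hx
  have h1 : kc f.push (uV f V) R z hz ≫ (GI f.push R).homologyπ q = 0 := eq_zero_of_comp_inv _ _ hx'
  cases q with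
  | zero =>
    have h3 := isIso_π_zero (GI f.push R)
    have h4 : kc f.push (uV f V) R z hz = 0 := by rw [← cancel_mono ((GI f.push R).homologyπ 0), h1, zero_comp]
    have h5 : z = 0 := by
      apply gm_injective f.push (uV f V) (uV_bijective f V) R
      rw [← kc_i f.push (uV f V) R z hz, h4, zero_comp, gm_zero]
    subst h5
    exact ⟨⊤, K.top_mem V, fun g _ => by rw [R.extMk_zero 1 rfl, Ext.comp_zero]⟩
  | succ p =>
    obtain ⟨c, hc⟩ : ∃ c : (PO O_D).obj V ⟶ Bd (GI f.push R) (p + 1),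
        c ≫ kernel.ι _ = kc f.push (uV f V) R z hz := ⟨kernel.lift _ _ h1, kernel.lift_ι _ _ _⟩
    have he := epi_toBd (GI f.push R) p (p + 1) rfl
    obtain ⟨T, hT, hT'⟩ := (testSystem (J := K) (ModSite.ringSh O_D)).lift
      (pullback.fst c (toBd (GI f.push R) p (p + 1) rfl))
    refine ⟨T, hT, fun {W} g hg => ?_⟩
    obtain ⟨y, hy⟩ := hT' g hg
    have hz' : ((PO O_C).map (f.fn.map g) ≫ z) ≫ R.cocomplex.d (p + 1) (p + 1 + 1) = 0 := by
      rw [Category.assoc, hz, comp_zero]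
    rw [R.mk₀_comp_extMk z (p + 1 + 1) rfl hz]
    refine extMk_eq_zero_of_boundary f.push (uV f W) (uV_bijective f W) R _ hz'
      (y ≫ pullback.snd c (toBd (GI f.push R) p (p + 1) rfl)) ?_
    have h6 : (GI f.push R).toCycles p (p + 1) = toBd (GI f.push R) p (p + 1) rfl ≫ kernel.ι _ := by
      rw [toBd, kernel.lift_ι]
    rw [h6, Category.assoc, ← pullback.condition_assoc, hc, ← Category.assoc, hy,
      ← cancel_mono ((GI f.push R).iCycles (p + 1)), kc_i, Category.assoc, kc_i]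
    change (PO O_D).map g ≫ uV f V ≫ f.push.map z =
      uV f W ≫ f.push.map ((PO O_C).map (f.fn.map g) ≫ z)
    rw [f.push.map_comp, ← Category.assoc, uV_nat, Category.assoc]

/-- Local surjectivity. -/
theorem tE_loc_surj (V : D) (F : ModSite.Mod O_C) (q : ℕ) (s : (PO O_D).obj V ⟶ (f.Rpush q).obj F) :
    ∃ T ∈ K V, ∀ {W : D} (g : W ⟶ V), T g →
      ∃ x : Ext.{w} ((PO O_C).obj (f.fn.obj W)) F q, tE f W F q x = (PO O_D).map g ≫ s := by
  let R := injectiveResolution F
  let s' : (PO O_D).obj V ⟶ (GI f.push R).homology q := s ≫ (R.isoRightDerivedObj f.push q).hom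
  have hs' : s' ≫ (R.isoRightDerivedObj f.push q).inv = s :=
    (Category.assoc _ _ _).trans
      ((congrArg (fun t => s ≫ t) (R.isoRightDerivedObj f.push q).hom_inv_id).trans (Category.comp_id s))
  obtain ⟨T, hT, hT'⟩ := (testSystem (J := K) (ModSite.ringSh O_D)).lift (pullback.fst s' ((GI f.push R).homologyπ q))
  refine ⟨T, hT, fun {W} g hg => ?_⟩
  obtain ⟨y, hy⟩ := hT' g hg
  obtain ⟨z, hz, hz'⟩ := exists_cocycle f.push (uV f W) (uV_bijective f W) R (y ≫ pullback.snd _ _)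
  refine ⟨R.extMk z (q + 1) rfl hz, ?_⟩
  refine (theta_extMk' f.push (uV f W) R z hz).trans ?_
  rw [kz, hz', Category.assoc y, ← pullback.condition, ← Category.assoc y, hy, Category.assoc]
  exact congrArg (fun t => (PO O_D).map g ≫ t) hs'

theorem tE_bijective [HasExt.{w'} (ModSite.Mod O_D)] (V : D) (F : ModSite.Mod O_C) (q : ℕ)
    (h : ∀ j p : ℕ, Subsingleton (ModSite.HU O_D ((f.Rpush j).obj F) (p + 1) V)) :
    Function.Bijective (tE f V F q) :=
  theta_bijective.{w, w'} f.push (uV f V) (uV_bijective f V)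
    (fun I hI n => haveI := hI; K578.LerayPush.subsingleton_ext_push f I V n)
    (fun j n => (K578.ModExtPM.subsingleton_ext_iff O_D _ (n + 1) V).2 (h j n))

end Site

section CNat

variable {C : Type u} [SmallCategory C] {J : GrothendieckTopology C} (R : Sheaf J RingCat.{u})

/-- The maps `ℤ_U ⟶ P(U)` are natural in `U`. -/
theorem c_nat {U V : C} (g : V ⟶ U) : CohCx.freeSheafMap J g ≫ K578.ModExtPM.c R U =
    K578.ModExtPM.c R V ≫ (SheafOfModules.toSheaf R).map ((PM R).map g) := by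
  apply FreeSheafHom.hom_ext
  rw [FreeSheafHom.freeSheafMap_comp_app_gen]
  have h1 : ((K578.ModExtPM.c R U).hom.app (op U)).hom (FreeSheafHom.gen J U) = K578.ModTest.gen R U :=
    FreeSheafHom.homMk_app_gen _
  have h2 : ((K578.ModExtPM.c R V ≫ (SheafOfModules.toSheaf R).map ((PM R).map g)).hom.app (op V)).hom
      (FreeSheafHom.gen J V) = homEq R V _ ((PM R).map g) := K578.ModExtPM.c_comp R ((PM R).map g)
  rw [h1, h2]
  have h3 := homEq_map g (𝟙 ((PM R).obj U))
  rw [Category.comp_id] at h3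
  exact h3.symm

end CNat

section HUExt

variable {T : TopCat.{u}} {O : Sheaf (Opens.grothendieckTopology T) CommRingCat.{u}}

section

variable [HasExt.{w} (ModSite.Mod O)]

/-- `Ext^q(P(U), F) ≃+ H^q(U, F)`. -/
def eE (F : ModSite.Mod O) (q : ℕ) (U : Opens T) :
    Ext.{w} ((PO O).obj U) F q ≃+ CohTop.HU (ModSite.toAb F) q U :=
  K578.ModExtPM.extEquiv.{w, u} (ModSite.ringSh O) U F q

/-- The map on cohomology of a morphism of modules. -/
abbrev hm {F G : ModSite.Mod O} (φ : F ⟶ G) (q : ℕ) (U : Opens T) :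
    CohTop.HU (ModSite.toAb F) q U →+ CohTop.HU (ModSite.toAb G) q U :=
  CohTop.HUmap ((SheafOfModules.toSheaf (ModSite.ringSh O)).map φ) q U

theorem eE_comp {F G : ModSite.Mod O} (φ : F ⟶ G) (q : ℕ) (U : Opens T)
    (x : Ext.{w} ((PO O).obj U) F q) :
    eE G q U (x.comp (Ext.mk₀ φ) (add_zero q)) = hm φ q U (eE F q U x) := by
  have := Groth.Agent.CohtopA.ModExt.toSheaf_preservesFiniteColimits (ModSite.ringSh O)
  refine (Groth.Agent.CohtopA.ExtAdj.extOfHom_comp (SheafOfModules.toSheaf (ModSite.ringSh O))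
    (K578.ModExtPM.c (ModSite.ringSh O) U) x (Ext.mk₀ φ) (add_zero q)).trans ?_
  rw [Ext.mapExactFunctor_mk₀]
  rfl

theorem eE_precomp {U V : Opens T} (h : V ≤ U) (F : ModSite.Mod O) (q : ℕ)
    (x : Ext.{w} ((PO O).obj U) F q) :
    eE F q V ((Ext.mk₀ ((PO O).map (homOfLE h))).comp x (zero_add q)) = CohTop.res (ModSite.toAb F) q h (eE F q U x) := by
  have := Groth.Agent.CohtopA.ModExt.toSheaf_preservesFiniteColimits (ModSite.ringSh O)
  refine (Groth.Agent.CohtopA.ExtAdj.extOfHom_precomp (SheafOfModules.toSheaf (ModSite.ringSh O))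
    (K578.ModExtPM.c (ModSite.ringSh O) U) (K578.ModExtPM.c (ModSite.ringSh O) V)
    (CohCx.freeSheafMap (Opens.grothendieckTopology T) (homOfLE h)) ((PO O).map (homOfLE h)) ?_ x).trans ?_
  · exact c_nat (ModSite.ringSh O) (homOfLE h)
  · rfl

end

end HUExt

section Space

open K29.RSec

variable {T₁ T₂ : TopCat.{u}} {O₁ : Sheaf (Opens.grothendieckTopology T₁) CommRingCat.{u}}
  {O₂ : Sheaf (Opens.grothendieckTopology T₂) CommRingCat.{u}} (f : ModSite.RMor O₁ O₂)
  [HasInjectiveResolutions (ModSite.Mod O₁)]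

/-- The map `H^q(f⁻¹ V, F) ⟶ Γ(V, R^q f_* F)`. -/
def th (V : Opens T₂) (F : ModSite.Mod O₁) (q : ℕ) :
    CohTop.HU (ModSite.toAb F) q (f.fn.obj V) →+ Sec ((f.Rpush q).obj F) V :=
  haveI : HasExt.{u + 1} (ModSite.Mod O₁) := HasExt.standard _
  { toFun := fun x => homEq (ModSite.ringSh O₂) V _ (tE.{u + 1} f V F q ((eE.{u + 1} F q (f.fn.obj V)).symm x))
    map_zero' := by rw [map_zero, map_zero]; exact homEq_zero
    map_add' := fun x y => by rw [map_add, map_add]; exact homEq_add _ _ }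

theorem th_eq [HasExt.{u + 1} (ModSite.Mod O₁)] (V : Opens T₂) (F : ModSite.Mod O₁) (q : ℕ)
    (x : Ext.{u + 1} ((PO O₁).obj (f.fn.obj V)) F q) :
    th f V F q (eE.{u + 1} F q (f.fn.obj V) x) = homEq (ModSite.ringSh O₂) V _ (tE.{u + 1} f V F q x) := by
  change homEq (ModSite.ringSh O₂) V _ (tE.{u + 1} f V F q ((eE.{u + 1} F q (f.fn.obj V)).symm _)) = _
  erw [AddEquiv.symm_apply_apply]

/-- Naturality in the module. -/
theorem th_map (V : Opens T₂) {F G : ModSite.Mod O₁} (φ : F ⟶ G) (q : ℕ)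
    (x : CohTop.HU (ModSite.toAb F) q (f.fn.obj V)) :
    th f V G q (hm φ q _ x) = app ((f.Rpush q).map φ) V (th f V F q x) := by
  haveI : HasExt.{u + 1} (ModSite.Mod O₁) := HasExt.standard _
  obtain ⟨y, rfl⟩ := (eE.{u + 1} F q (f.fn.obj V)).surjective x
  rw [← eE_comp, th_eq, th_eq, tE_comp, homEq_comp]
  rfl

/-- Naturality in the open set. -/
theorem th_res {V W : Opens T₂} (h : W ≤ V) (F : ModSite.Mod O₁) (q : ℕ)
    (x : CohTop.HU (ModSite.toAb F) q (f.fn.obj V)) :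
    th f W F q (CohTop.res (ModSite.toAb F) q ((f.fn.map (homOfLE h)).le) x) =
      res ((f.Rpush q).obj F) h (th f V F q x) := by
  haveI : HasExt.{u + 1} (ModSite.Mod O₁) := HasExt.standard _
  obtain ⟨y, rfl⟩ := (eE.{u + 1} F q (f.fn.obj V)).surjective x
  rw [← eE_precomp, th_eq]
  have h1 := tE_precomp f (homOfLE h) F q y
  have h2 : (homOfLE ((f.fn.map (homOfLE h)).le)) = f.fn.map (homOfLE h) := rfl
  rw [h2, h1, homEq_map, th_eq]
  rfl

theorem th_loc_inj (V : Opens T₂) (F : ModSite.Mod O₁) (q : ℕ)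
    (x : CohTop.HU (ModSite.toAb F) q (f.fn.obj V)) (hx : th f V F q x = 0) (y : T₂) (hy : y ∈ V) :
    ∃ (W : Opens T₂) (h : W ≤ V), y ∈ W ∧
      CohTop.res (ModSite.toAb F) q ((f.fn.map (homOfLE h)).le) x = 0 := by
  haveI : HasExt.{u + 1} (ModSite.Mod O₁) := HasExt.standard _
  obtain ⟨x', rfl⟩ := (eE.{u + 1} F q (f.fn.obj V)).surjective x
  rw [th_eq] at hx
  have hx' : tE.{u + 1} f V F q x' = 0 := by
    apply (homEq (ModSite.ringSh O₂) V _).injective
    rw [hx, homEq_zero]; rfl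
  obtain ⟨S, hS, hS'⟩ := tE_loc_inj f V F q x' hx'
  obtain ⟨W, g, hg, hyW⟩ := hS y hy
  refine ⟨W, g.le, hyW, ?_⟩
  rw [← eE_precomp]
  have := hS' g hg
  have h2 : (homOfLE ((f.fn.map (homOfLE g.le)).le)) = f.fn.map g := rfl
  rw [h2, this, map_zero]

theorem th_loc_surj (V : Opens T₂) (F : ModSite.Mod O₁) (q : ℕ)
    (s : Sec ((f.Rpush q).obj F) V) (y : T₂) (hy : y ∈ V) :
    ∃ (W : Opens T₂) (h : W ≤ V) (x : CohTop.HU (ModSite.toAb F) q (f.fn.obj W)), y ∈ W ∧
      th f W F q x = res _ h s := by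
  haveI : HasExt.{u + 1} (ModSite.Mod O₁) := HasExt.standard _
  obtain ⟨s', hs'⟩ := (homEq (ModSite.ringSh O₂) V ((f.Rpush q).obj F)).surjective s
  obtain ⟨S, hS, hS'⟩ := tE_loc_surj.{u + 1} f V F q s'
  obtain ⟨W, g, hg, hyW⟩ := hS y hy
  obtain ⟨x, hx⟩ := hS' g hg
  refine ⟨W, g.le, eE.{u + 1} F q (f.fn.obj W) x, hyW, ?_⟩
  rw [th_eq, hx, homEq_map, hs']
  rfl

theorem th_bijective (V : Opens T₂) (F : ModSite.Mod O₁) (q : ℕ)
    (h : ∀ j p : ℕ, Subsingleton (CohTop.HU (ModSite.toAb ((f.Rpush j).obj F)) (p + 1) V)) :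
    Function.Bijective (th f V F q) := by
  haveI : HasExt.{u + 1} (ModSite.Mod O₁) := HasExt.standard _
  haveI : HasExt.{u + 1} (ModSite.Mod O₂) := HasExt.standard _
  exact (homEq (ModSite.ringSh O₂) V _).bijective.comp
    ((tE_bijective.{u + 1, u + 1} f V F q h).comp (eE.{u + 1} F q (f.fn.obj V)).symm.bijective)

end Space

end K178.Theta
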