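import Groth.Agent.FSch.K288.PushCoh
import Groth.Agent.FSch.K178.Theta
import Groth.Agent.SiteCmp.K578.LocZero
import Groth.Agent.Ega3B.RpushAbCmp
import Groth.Agent.FCompl.K28.AdicSq
import Groth.Agent.FCompl.K29.RExact
import Groth.Agent.S0036
import Groth.Prelude.Def_FSch6

/-!
# `R^q f_* ((u_k)_* G) ≅ (u_k)_* (R^q (f_k)_* G)`

* `preservesFiniteColimits_level`: `(u_k)_*` is exact;
* `nonempty_iso`: the isomorphism;
* `isCohF_Rpush`, `cartF_Rpush`: `R^q f_* ((u_k)_* G)` is coherent for `f` proper and `G` coherent on `X_k`.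
-/

set_option autoImplicit false
set_option linter.style.haveILetI false
universe u

open CategoryTheory TopologicalSpace Opposite CategoryTheory.Limits AlgebraicGeometry

noncomputable section

namespace K178.LevPush

open K29.RSec K29.RStalk K29.RPull K29.RExact Groth.Agent.Etcore

variable {𝔛 𝔜 : FSch.Sys.{u}} (h𝔛 : 𝔛.IsFormal) (h𝔜 : 𝔜.IsFormal)

/-- The direct image from a level preserves epimorphisms. -/
theorem epi_level (k : ℕ) {P Q : ModSite.Mod (𝔛.X k).sheaf} (g : P ⟶ Q) [Epi g] :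
    Epi ((FSch.levelMor 𝔛 h𝔛 k).push.map g) := by
  rw [epi_iff_local]
  intro V t y hy
  have e1 : 𝔛.gInv h𝔛 k ((𝔛.toX k).base y) = y := by
    have := congrArg (fun φ => φ y) (𝔛.toX_base_gInv h𝔛 k)
    exact this
  have e2 : ∀ z, (𝔛.toX k).base (𝔛.gInv h𝔛 k z) = z := fun z => by
    have := congrArg (fun φ => φ z) (𝔛.gInv_toX_base h𝔛 k)
    exact this
  have hy' : (𝔛.toX k).base y ∈ 𝔛.lvU h𝔛 k V := by
    change 𝔛.gInv h𝔛 k ((𝔛.toX k).base y) ∈ V
    rw [e1]; exact hy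
  obtain ⟨W', hyW', hW', s, hs⟩ := (epi_iff_local g).1 inferInstance (𝔛.lvU h𝔛 k V)
    (show Sec Q (𝔛.lvU h𝔛 k V) from t) _ hy'
  let U : Opens (𝔛.X 0) := (Opens.map (𝔛.toX k).base).obj W' ⊓ V
  have hle : 𝔛.lvU h𝔛 k U ≤ W' := by
    intro z hz
    have h2 : (𝔛.toX k).base (𝔛.gInv h𝔛 k z) ∈ W' := hz.1
    rwa [e2] at h2
  refine ⟨U, ⟨hyW', hy⟩, inf_le_right, (show Sec ((FSch.levelMor 𝔛 h𝔛 k).push.obj P) U from res P hle s), ?_⟩
  have h3 : app g (𝔛.lvU h𝔛 k U) (res P hle s) = res Q (hle.trans hW') (show Sec Q (𝔛.lvU h𝔛 k V) from t) := by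
    rw [app_res, hs, res_res]
  exact h3

/-- An additive left exact functor which preserves epimorphisms is right exact. -/
theorem preservesFiniteColimits_of_epi {A B : Type*} [Category* A] [Abelian A] [Category* B]
    [Abelian B] (F : A ⥤ B) [F.Additive] [PreservesFiniteLimits F]
    (h : ∀ {X Y : A} (g : X ⟶ Y) [Epi g], Epi (F.map g)) : PreservesFiniteColimits F := by
  rw [F.preservesFiniteColimits_iff_forall_exact_map_and_epi]
  intro S hS
  have := hS.mono_f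
  have := hS.epi_g
  have h1 := (F.preservesFiniteLimits_iff_forall_exact_map_and_mono).1 inferInstance S hS
  exact ⟨h1.1, h S.g⟩

theorem preservesFiniteLimits_push {C : Type u} [SmallCategory C] {J : GrothendieckTopology C} {O_C : Sheaf J CommRingCat.{u}}
    {D : Type u} [SmallCategory D] {K : GrothendieckTopology D} {O_D : Sheaf K CommRingCat.{u}}
    (f : ModSite.RMor O_C O_D) : PreservesFiniteLimits f.push :=
  have : PreservesLimits f.push := f.adj.rightAdjoint_preservesLimits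
  PreservesLimits.preservesFiniteLimits _

theorem preservesFiniteColimits_level (k : ℕ) : PreservesFiniteColimits (FSch.levelMor 𝔛 h𝔛 k).push :=
  have := preservesFiniteLimits_push (FSch.levelMor 𝔛 h𝔛 k)
  preservesFiniteColimits_of_epi _ (fun g _ => epi_level h𝔛 k g)

section Acyc

variable {C : Type u} [SmallCategory C] {J : GrothendieckTopology C} {O_C : Sheaf J CommRingCat.{u}}
    {D : Type u} [SmallCategory D] {K : GrothendieckTopology D} {O_D : Sheaf K CommRingCat.{u}}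
    (f : ModSite.RMor O_C O_D)

/-- A module without higher cohomology on the `f⁻¹ V` is acyclic for `f_*`. -/
theorem acyc_push (M : ModSite.Mod O_C) (h : ∀ (V : D) (q : ℕ), Subsingleton (ModSite.HU O_C M (q + 1) (f.fn.obj V))) :
    haveI := K578.Der.enoughInjectives O_C
    DerLES.Acyc f.push M := by
  have := K578.Der.enoughInjectives O_C
  intro q
  have : SiteCmp.HasRpushD f := K578.Der.hasRpushD f
  have h2 := K578.LocZero.isZero_homologySingle_of_local f M (q + 1) Set.univ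
    (fun U => ⟨PUnit, fun _ => U, fun _ => 𝟙 U, by
      have : Sieve.ofArrows (fun _ : PUnit.{u+1} => U) (fun _ => 𝟙 U) = ⊤ := by
        rw [← Sieve.id_mem_iff_eq_top]
        exact Sieve.ofArrows_mk _ _ PUnit.unit
      rw [this]; exact K.top_mem U, fun _ => trivial⟩)
    (fun W _ => h W q)
  exact h2.of_iso (K578.RpushSingle.homologySingle f M (q + 1)).symm

end Acyc

/-- `R^q f_* ((u_k)_* G) ≅ (u_k)_* (R^q (f_k)_* G)`. -/
theorem nonempty_iso (f : 𝔛 ⟶ 𝔜) (k q : ℕ) [HasInjectiveResolutions (FSch.ModF 𝔛 h𝔛)]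
    [HasInjectiveResolutions (𝔛.X k).Modules] (G : (𝔛.X k).Modules) :
    Nonempty ((FSch.levelMor 𝔜 h𝔜 k).push.obj ((Coh.Rpush ((f : FSch.Hom 𝔛 𝔜).app k) q).obj G) ≅
      (FSch.RpushF f h𝔛 h𝔜 q).obj ((FSch.levelMor 𝔛 h𝔛 k).push.obj G)) := by
  haveI : EnoughInjectives (FSch.ModF 𝔛 h𝔛) := K578.Der.enoughInjectives _
  haveI : EnoughInjectives (ModSite.Mod (𝔛.X k).sheaf) := K578.Der.enoughInjectives _
  haveI := preservesFiniteLimits_push (FSch.levelMor 𝔛 h𝔛 k)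
  haveI := preservesFiniteColimits_level h𝔛 k
  haveI := preservesFiniteLimits_push (FSch.levelMor 𝔜 h𝔜 k)
  haveI := preservesFiniteColimits_level h𝔜 k
  haveI := preservesFiniteLimits_push (ModSite.RMor.ofScheme ((f : FSch.Hom 𝔛 𝔜).app k))
  haveI := preservesFiniteLimits_push (FSch.homMor f h𝔛 h𝔜)
  exact Groth.Agent.Ega3B.RpushAbCmp.nonempty_iso_of_acyc
    (G := (ModSite.RMor.ofScheme ((f : FSch.Hom 𝔛 𝔜).app k)).push)
    (G' := (FSch.homMor f h𝔛 h𝔜).push)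
    (a := (FSch.levelMor 𝔛 h𝔛 k).push)
    (b := (FSch.levelMor 𝔜 h𝔜 k).push)
    (FSch.lvPushSq f h𝔛 h𝔜 k).symm
    (fun I hI => acyc_push (FSch.homMor f h𝔛 h𝔜) _ (fun V n =>
      K578.LerayPush.subsingleton_HU_push (FSch.levelMor 𝔛 h𝔛 k) I _ n)) q G

section Noeth

open K181.Good K181.Formal

variable (h𝔜 : 𝔜.IsLocNoethFormal) {f : 𝔛 ⟶ 𝔜}

/-- `R^q f_* ((u_k)_* G)` is cartesian and finite on every affine open set. -/
theorem cartF_Rpush (hf : FSch.IsProperHom f) [HasInjectiveResolutions (FSch.ModF 𝔛 h𝔛)] (k q : ℕ)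
    {G : (𝔛.X k).Modules} (hG : Coh.IsCoh G) {U : (𝔜.X 0).Opens} (hU : IsAffineOpen U) :
    CartF (fcov h𝔜) ((FSch.RpushF f h𝔛 h𝔜.1 q).obj ((FSch.levelMor 𝔛 h𝔛 k).push.obj G)) U := by
  haveI : HasInjectiveResolutions (𝔛.X k).Modules := K578.Der.hasInjectiveResolutions (𝔛.X k).sheaf
  haveI : IsProper ((f : FSch.Hom 𝔛 𝔜).app 0) := hf.2
  haveI : IsProper ((f : FSch.Hom 𝔛 𝔜).app k) := K28.AdicSq.isProper_app f h𝔜 hf.1 k
  haveI : IsLocallyNoetherian (𝔜.X k) := h𝔜.2.2 k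
  obtain ⟨e⟩ := nonempty_iso h𝔛 h𝔜.1 f k q G
  exact (K288.PushCoh.cartF_push h𝔜 k (Groth.Agent.S0036.result ((f : FSch.Hom 𝔛 𝔜).app k) G hG q) hU).of_iso e

theorem isCohF_Rpush (hf : FSch.IsProperHom f) [HasInjectiveResolutions (FSch.ModF 𝔛 h𝔛)] (k q : ℕ)
    {G : (𝔛.X k).Modules} (hG : Coh.IsCoh G) :
    FSch.IsCohF 𝔜 h𝔜.1 ((FSch.RpushF f h𝔛 h𝔜.1 q).obj ((FSch.levelMor 𝔛 h𝔛 k).push.obj G)) :=
  (isCohF_iff h𝔜).2 fun x => by
    obtain ⟨U, hU, hxU, -⟩ := (fcov h𝔜).exists_mem (show x ∈ (⊤ : Opens (𝔜.X 0)) from trivial)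
    exact ⟨U, hxU, cartF_Rpush h𝔛 h𝔜 hf k q hG hU⟩

/-- `H^q(f⁻¹ V, (u_k)_* G) = Γ(V, R^q f_* ((u_k)_* G))` for `V` affine. -/
theorem th_bijective (hf : FSch.IsProperHom f) [HasInjectiveResolutions (FSch.ModF 𝔛 h𝔛)] (k q : ℕ)
    {G : (𝔛.X k).Modules} (hG : Coh.IsCoh G) {V : (𝔜.X 0).Opens} (hV : IsAffineOpen V) :
    Function.Bijective (K178.Theta.th (FSch.homMor f h𝔛 h𝔜.1) V ((FSch.levelMor 𝔛 h𝔛 k).push.obj G) q) :=
  K178.Theta.th_bijective _ V _ q fun j p =>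
    subsingleton_HU (cartF_Rpush h𝔛 h𝔜 hf k j hG hV).cart ((mem_fcov h𝔜).2 hV) le_rfl p

end Noeth

end K178.LevPush
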