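import Groth.Agent.FSch.K178.H2Lift

/-!
# Lifting an invertible module to a flat adic system over a local ring, when `H²(X_0, O) = 0`
-/

set_option autoImplicit false
universe u
open CategoryTheory CategoryTheory.Limits AlgebraicGeometry

namespace K178.LiftSys

section

variable (A : Type u) [CommRing A] [IsLocalRing A]

/-- the ring `A/m^{n+1}` -/
abbrev Q (n : ℕ) : CommRingCat.{u} := CommRingCat.of (A ⧸ (IsLocalRing.maximalIdeal A) ^ (n + 1))

theorem le_max (n : ℕ) : (IsLocalRing.maximalIdeal A) ^ (n + 1) ≤ IsLocalRing.maximalIdeal A :=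
  Ideal.pow_le_self (Nat.succ_ne_zero n)

instance (n : ℕ) : IsLocalRing (Q A n) := by
  have : Nontrivial (A ⧸ (IsLocalRing.maximalIdeal A) ^ (n + 1)) :=
    Ideal.Quotient.nontrivial_iff.2 fun h => (IsLocalRing.maximalIdeal.isMaximal A).ne_top
      (eq_top_iff.2 (h.ge.trans (le_max A n)))
  exact IsLocalRing.of_surjective' (Ideal.Quotient.mk _) Ideal.Quotient.mk_surjective

/-- the transition maps -/
abbrev tr (n k : ℕ) (h : k ≤ n) : Q A n ⟶ Q A k :=
  CommRingCat.ofHom (Ideal.Quotient.factor (Ideal.pow_le_pow_right (Nat.succ_le_succ h)))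

theorem tr_surj (n k : ℕ) (h : k ≤ n) : Function.Surjective (tr A n k h).hom :=
  Ideal.Quotient.factor_surjective (Ideal.pow_le_pow_right (Nat.succ_le_succ h))

theorem mem_ker_tr (n k : ℕ) (h : k ≤ n) (x : A) :
    Ideal.Quotient.mk ((IsLocalRing.maximalIdeal A) ^ (n + 1)) x ∈ RingHom.ker (tr A n k h).hom ↔
      x ∈ (IsLocalRing.maximalIdeal A) ^ (k + 1) := by
  rw [RingHom.mem_ker]
  change Ideal.Quotient.mk ((IsLocalRing.maximalIdeal A) ^ (k + 1)) x = 0 ↔ _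
  exact Ideal.Quotient.eq_zero_iff_mem

theorem mem_max (n : ℕ) (x : A) :
    (Ideal.Quotient.mk ((IsLocalRing.maximalIdeal A) ^ (n + 1)) x : Q A n) ∈ IsLocalRing.maximalIdeal (Q A n) ↔
      x ∈ IsLocalRing.maximalIdeal A := by
  have : IsLocalHom (Ideal.Quotient.mk ((IsLocalRing.maximalIdeal A) ^ (n + 1))) := by
    have : Nontrivial (A ⧸ (IsLocalRing.maximalIdeal A) ^ (n + 1)) :=
      inferInstanceAs (Nontrivial (Q A n))
    exact IsLocalHom.of_surjective _ Ideal.Quotient.mk_surjective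
  rw [IsLocalRing.mem_maximalIdeal, IsLocalRing.mem_maximalIdeal, mem_nonunits_iff, mem_nonunits_iff]
  exact not_congr (isUnit_map_iff (Ideal.Quotient.mk ((IsLocalRing.maximalIdeal A) ^ (n + 1))) x)

theorem ker_zero (n : ℕ) : RingHom.ker (tr A n 0 (Nat.zero_le n)).hom = IsLocalRing.maximalIdeal (Q A n) := by
  ext y
  obtain ⟨x, rfl⟩ := Ideal.Quotient.mk_surjective y
  refine (mem_ker_tr A n 0 _ x).trans (Iff.trans ?_ (mem_max A n x).symm)
  rw [zero_add, pow_one]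

theorem exists_zero {A : Type u} [CommRing A] [IsLocalRing A]
    (Xs : ℕ → Scheme.{u}) (fs : ∀ n : ℕ, Xs n ⟶ (Spec (Q A n)))
    (ts : ∀ n : ℕ, Xs n ⟶ Xs (n + 1))
    (hcart : ∀ n : ℕ, IsPullback (ts n) (fs n) (fs (n + 1)) (Spec.map (tr A (n + 1) n (Nat.le_succ n)))) (n : ℕ) :
    ∃ i : Xs 0 ⟶ Xs n, IsPullback i (fs 0) (fs n) (Spec.map (tr A n 0 (Nat.zero_le n))) := by
  induction n with
  | zero =>
    refine ⟨𝟙 _, ?_⟩
    have h1 : tr A 0 0 le_rfl = 𝟙 _ := by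
      ext x
      rfl
    rw [h1, Spec.map_id]
    exact IsPullback.of_horiz_isIso ⟨by rw [Category.id_comp, Category.comp_id]⟩
  | succ n ih =>
    obtain ⟨i, hi⟩ := ih
    refine ⟨i ≫ ts n, ?_⟩
    have h1 := hi.paste_horiz (hcart n)
    rw [← Spec.map_comp] at h1
    have h2 : tr A (n + 1) n (Nat.le_succ n) ≫ tr A n 0 (Nat.zero_le n) = tr A (n + 1) 0 (Nat.zero_le _) := by
      ext x
      rfl
    rw [h2] at h1
    exact h1

theorem step {A : Type u} [CommRing A] [IsLocalRing A] [IsNoetherianRing A]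
    (Xs : ℕ → Scheme.{u}) (fs : ∀ n : ℕ, Xs n ⟶ (Spec (Q A n)))
    (ts : ∀ n : ℕ, Xs n ⟶ Xs (n + 1))
    (hcart : ∀ n : ℕ, IsPullback (ts n) (fs n) (fs (n + 1)) (Spec.map (tr A (n + 1) n (Nat.le_succ n))))
    (hflat : ∀ n, Flat (fs n))
    (h2 : Subsingleton (Coh.HH (Xs 0) (Coh.structureModule (Xs 0)) 2)) (n : ℕ)
    (L₀ : (Xs n).Modules) (hL₀ : PicF.IsInvertible L₀) :
    ∃ L : (Xs (n + 1)).Modules, PicF.IsInvertible L ∧
      Nonempty ((Scheme.Modules.pullback (ts n)).obj L ≅ L₀) := by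
  obtain ⟨i₀, hi₀⟩ := exists_zero Xs fs ts hcart (n + 1)
  have hnil : ∀ x ∈ RingHom.ker (tr A (n + 1) n (Nat.le_succ n)).hom, IsNilpotent x := by
    intro x hx
    obtain ⟨x, rfl⟩ := Ideal.Quotient.mk_surjective x
    rw [mem_ker_tr] at hx
    refine ⟨2, ?_⟩
    rw [← map_pow, Ideal.Quotient.eq_zero_iff_mem]
    have h3 := Ideal.pow_mem_pow hx 2
    rw [← pow_mul] at h3
    exact Ideal.pow_le_pow_right (by omega) h3
  have hsurj : Surjective (Spec.map (tr A (n + 1) n (Nat.le_succ n))) := by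
    have key : ∀ p : PrimeSpectrum (Q A (n + 1)),
        p ∈ Set.range (PrimeSpectrum.comap (tr A (n + 1) n (Nat.le_succ n)).hom) := by
      intro p
      rw [range_comap_of_surjective _ _ (tr_surj A _ _ _), PrimeSpectrum.mem_zeroLocus]
      intro x hx
      exact nilpotent_iff_mem_prime.1 (hnil x hx) p.asIdeal p.isPrime
    exact ⟨key⟩
  have hs : Surjective (ts n) := MorphismProperty.of_isPullback (hcart n).flip hsurj
  have := hflat (n + 1)
  refine K178.H2Lift.step (fs (n + 1)) (tr A (n + 1) 0 (Nat.zero_le _)) (tr_surj A _ _ _) (ker_zero A (n + 1))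
    (fs 0) i₀ hi₀ (tr A (n + 1) n (Nat.le_succ n)) (tr_surj A _ _ _) ?_ ?_ (fs n) (ts n) (hcart n)
    hs.surj h2 L₀ hL₀
  · intro a ha b hb
    obtain ⟨a, rfl⟩ := Ideal.Quotient.mk_surjective a
    obtain ⟨b, rfl⟩ := Ideal.Quotient.mk_surjective b
    rw [mem_ker_tr] at hb
    have ha' := (mem_max A (n + 1) a).1 ha
    rw [← map_mul, Ideal.Quotient.eq_zero_iff_mem, pow_succ' (IsLocalRing.maximalIdeal A) (n + 1)]
    exact Ideal.mul_mem_mul ha' hb
  · intro a ha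
    obtain ⟨a, rfl⟩ := Ideal.Quotient.mk_surjective a
    rw [mem_ker_tr] at ha
    exact (mem_max A (n + 1) a).2 (le_max A n ha)

theorem main {A : Type u} [CommRing A] [IsLocalRing A] [IsNoetherianRing A]
    (Xs : ℕ → Scheme.{u}) (fs : ∀ n : ℕ, Xs n ⟶ (Spec (Q A n)))
    (ts : ∀ n : ℕ, Xs n ⟶ Xs (n + 1))
    (hcart : ∀ n : ℕ, IsPullback (ts n) (fs n) (fs (n + 1)) (Spec.map (tr A (n + 1) n (Nat.le_succ n))))
    (hflat : ∀ n, Flat (fs n))
    (h2 : Subsingleton (Coh.HH (Xs 0) (Coh.structureModule (Xs 0)) 2))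
    (L₀ : (Xs 0).Modules) (hL₀ : PicF.IsInvertible L₀) :
    ∃ L : ∀ n : ℕ, (Xs n).Modules, (∀ n, PicF.IsInvertible (L n)) ∧ L 0 = L₀ ∧
      ∀ n, Nonempty ((Scheme.Modules.pullback (ts n)).obj (L (n + 1)) ≅ L n) := by
  choose g hg1 hg2 using fun n => step Xs fs ts hcart hflat h2 n
  let L : ∀ n : ℕ, {L : (Xs n).Modules // PicF.IsInvertible L} := fun n =>
    Nat.rec ⟨L₀, hL₀⟩ (fun n L => ⟨g n L.1 L.2, hg1 n L.1 L.2⟩) n
  exact ⟨fun n => (L n).1, fun n => (L n).2, rfl, fun n => hg2 n (L n).1 (L n).2⟩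

end

end K178.LiftSys
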