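import Groth.Agent.FSch.K178.Theta
import Groth.Agent.FCompl.K29.RLim
import Groth.Agent.FCompl.K29.RExact

/-!
# `R^q f_* F = lim_k R^q f_* F_k` from `H^q(f⁻¹ V, F) = lim_k H^q(f⁻¹ V, F_k)`

* `exists_iso`: if `H^q(f⁻¹ V, F) ⟶ lim_k H^q(f⁻¹ V, F_k)` is bijective and
  `H^q(f⁻¹ V, F_k) ⟶ Γ(V, R^q f_* F_k)` is bijective for all `V` in a basis, then
  `R^q f_* F ⟶ lim_k R^q f_* F_k` is an isomorphism.
-/

set_option autoImplicit false
set_option linter.style.haveILetI false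
universe u

open CategoryTheory CategoryTheory.Limits Opposite TopologicalSpace

noncomputable section

namespace K178.LimPush

open K29.RSec K29.RLim K29.RExact K178.Theta

section Tower

variable {𝒞 : Type*} [Category* 𝒞] {X : ℕ → 𝒞} (t : ∀ k, X (k + 1) ⟶ X k) {Y : 𝒞} (u : ∀ k, Y ⟶ X k)
  (hu : ∀ k, u (k + 1) ≫ t k = u k)

/-- The cone over a tower attached to a compatible family of morphisms. -/
def cone : Cone (Functor.ofOpSequence t) where
  pt := Y
  π := NatTrans.ofOpSequence u (fun n => by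
    refine (Category.id_comp (u n)).trans ((hu n).symm.trans ?_)
    exact congrArg (fun φ => u (n + 1) ≫ φ) (Functor.ofOpSequence_map_homOfLE_succ t n).symm)

theorem cone_π (k : ℕ) : (cone t u hu).π.app (op k) = u k := rfl

end Tower

variable {T₁ T₂ : TopCat.{u}} {O₁ : Sheaf (Opens.grothendieckTopology T₁) CommRingCat.{u}}
  {O₂ : Sheaf (Opens.grothendieckTopology T₂) CommRingCat.{u}} (f : ModSite.RMor O₁ O₂)
  [HasInjectiveResolutions (ModSite.Mod O₁)] (q : ℕ) {X : ℕ → ModSite.Mod O₁} (t : ∀ k, X (k + 1) ⟶ X k)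
  {F : ModSite.Mod O₁} (u : ∀ k, F ⟶ X k) (hu : ∀ k, u (k + 1) ≫ t k = u k)

/-- The tower `R^q f_* F_k`. -/
abbrev tow : ℕᵒᵖ ⥤ ModSite.Mod O₂ :=
  Functor.ofOpSequence (X := fun k => (f.Rpush q).obj (X k)) (fun k => (f.Rpush q).map (t k))

include hu in
theorem map_hu (k : ℕ) : (f.Rpush q).map (u (k + 1)) ≫ (f.Rpush q).map (t k) = (f.Rpush q).map (u k) := by
  rw [← Functor.map_comp, hu]

/-- The map `R^q f_* F ⟶ lim_k R^q f_* F_k`. -/
def toLim : (f.Rpush q).obj F ⟶ limit (tow f q t) :=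
  limit.lift (tow f q t) (cone (X := fun k => (f.Rpush q).obj (X k)) (fun k => (f.Rpush q).map (t k))
    (fun k => (f.Rpush q).map (u k)) (map_hu f q t u hu))

theorem toLim_π (k : ℕ) : toLim f q t u hu ≫ limit.π (tow f q t) (op k) = (f.Rpush q).map (u k) :=
  limit.lift_π _ _

variable (B : Set (Opens T₂)) (hB : ∀ (U : Opens T₂) (y : T₂), y ∈ U → ∃ W ∈ B, y ∈ W ∧ W ≤ U)
  (hinj : ∀ V ∈ B, ∀ x : CohTop.HU (ModSite.toAb F) q (f.fn.obj V), (∀ k, hm (u k) q _ x = 0) → x = 0)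
  (hsurj : ∀ V ∈ B, ∀ y : ∀ k, CohTop.HU (ModSite.toAb (X k)) q (f.fn.obj V),
    (∀ k, hm (t k) q _ (y (k + 1)) = y k) → ∃ x, ∀ k, hm (u k) q _ x = y k)
  (hth : ∀ V ∈ B, ∀ k, Function.Bijective (th f V (X k) q))

theorem app_toLim (V : Opens T₂) (x : CohTop.HU (ModSite.toAb F) q (f.fn.obj V)) (k : ℕ) :
    app (limit.π (tow f q t) (op k)) V (app (toLim f q t u hu) V (th f V F q x)) =
      th f V (X k) q (hm (u k) q _ x) := by
  rw [th_map, ← toLim_π f q t u hu k]
  rfl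

include hB hinj hth in
theorem mono_toLim : Mono (toLim f q t u hu) := by
  rw [mono_iff_app]
  intro V
  rw [injective_iff_map_eq_zero]
  intro s hs
  refine eq_of_forall_nhds _ s 0 fun y hy => ?_
  obtain ⟨W₁, hW₁, x₁, hyW₁, hx₁⟩ := th_loc_surj f V F q s y hy
  obtain ⟨W, hWB, hyW, hWW⟩ := hB W₁ y hyW₁
  refine ⟨W, hyW, hWW.trans hW₁, ?_⟩
  have hx : th f W F q (CohTop.res (ModSite.toAb F) q ((f.fn.map (homOfLE hWW)).le) x₁) = res _ (hWW.trans hW₁) s := by
    rw [th_res f hWW F q x₁, hx₁, res_res]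
  have h0 : CohTop.res (ModSite.toAb F) q ((f.fn.map (homOfLE hWW)).le) x₁ = 0 := by
    refine hinj W hWB _ fun k => ?_
    apply (hth W hWB k).1
    rw [← app_toLim f q t u hu W _ k, hx, app_res, hs, map_zero, map_zero, map_zero]
    rfl
  rw [← hx, h0, map_zero, map_zero]

include hsurj hth in
theorem surjective_toLim (V : Opens T₂) (hV : V ∈ B) : Function.Surjective (app (toLim f q t u hu) V) := by
  intro y
  choose x hx using fun k => (hth V hV k).2 (app (limit.π (tow f q t) (op k)) V y)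
  obtain ⟨x', hx'⟩ := hsurj V hV x fun k => by
    apply (hth V hV k).1
    rw [th_map, hx, hx]
    have h1 : limit.π (tow f q t) (op (k + 1)) ≫ (f.Rpush q).map (t k) = limit.π (tow f q t) (op k) := by
      rw [← limit.w (tow f q t) (homOfLE (Nat.le_add_right k 1)).op, Functor.ofOpSequence_map_homOfLE_succ]
      rfl
    rw [← h1]
    rfl
  refine ⟨th f V F q x', lim_ext _ _ _ fun k => ?_⟩
  rw [app_toLim, hx', hx]

include hB hinj hsurj hth in
/-- `R^q f_* F ⟶ lim_k R^q f_* F_k` is an isomorphism. -/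
theorem isIso_toLim : IsIso (toLim f q t u hu) := by
  have h1 : Mono (toLim f q t u hu) := mono_toLim f q t u hu B hB hinj hth
  have h2 : Epi (toLim f q t u hu) := by
    rw [epi_iff_local]
    intro V s y hy
    obtain ⟨W, hWB, hyW, hWV⟩ := hB V y hy
    obtain ⟨s', hs'⟩ := surjective_toLim f q t u hu B hsurj hth W hWB (res _ hWV s)
    exact ⟨W, hyW, hWV, s', hs'⟩
  exact isIso_of_mono_of_epi _

include hu hB hinj hsurj hth in
theorem exists_iso : ∃ e : (f.Rpush q).obj F ≅ limit (tow f q t), ∀ k : ℕ,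
    e.hom ≫ limit.π (tow f q t) (op k) = (f.Rpush q).map (u k) :=
  haveI := isIso_toLim f q t u hu B hB hinj hsurj hth
  ⟨asIso (toLim f q t u hu), toLim_π f q t u hu⟩

end K178.LimPush
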