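import Groth.Agent.FSch.K178.Theta
import Groth.Agent.Gaga.H977.OpenRes
import Groth.Agent.FCompl.K29.RExact
import Groth.Agent.FSch.K181.PushCoprod

/-!
# Restriction of sheaves of modules along open embeddings of ringed spaces

For an open embedding `g : T' ⟶ T` and `ψ : R' ⟶ R|_{T'}`:

* `rM g ψ : Mod R ⥤ Mod R'` with `(rM M)(W) = M(g(W))`; it is exact;
* `cR`, `iE`: `Ext^q(P(g W), F) ≃+ Ext^q(P(W), rM F)`, natural in `F`, compatible with multiplication by sections.
-/

set_option autoImplicit false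
set_option linter.style.haveILetI false

universe w w' u

open CategoryTheory CategoryTheory.Limits CategoryTheory.Abelian Opposite TopologicalSpace Topology

noncomputable section

namespace K178.ORes

open K578.ModTest K578.PushComp K29.RSec K29.RExact Groth.Agent.Gaga.H977.OpenRes K178.Theta

variable {T' T : TopCat.{u}} (g : T' ⟶ T) [hg : Fact (IsOpenEmbedding g)]
  {R' : Sheaf (Opens.grothendieckTopology T') CommRingCat.{u}} {R : Sheaf (Opens.grothendieckTopology T) CommRingCat.{u}}
  (ψ : R' ⟶ ((imO g).sheafPushforwardContinuous CommRingCat.{u} (Opens.grothendieckTopology T')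
    (Opens.grothendieckTopology T)).obj R)

/-- `ψ` as a morphism of sheaves of rings. -/
abbrev ψR : ringSheaf R' ⟶ ((imO g).sheafPushforwardContinuous RingCat.{u} (Opens.grothendieckTopology T')
    (Opens.grothendieckTopology T)).obj (ringSheaf R) :=
  (sheafCompose (Opens.grothendieckTopology T') (forget₂ CommRingCat.{u} RingCat.{u})).map ψ

/-- Restriction of modules. -/
def rM : Mod R ⥤ Mod R' := SheafOfModules.pushforward (ψR g ψ)

instance : (rM g ψ).Additive where

/-- The scalars. -/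
def cψ (W : Opens T') : O R' W →+* O R ((imO g).obj W) := (ψ.hom.app (op W)).hom

/-- Sections of the restriction. -/
def toR {M : Mod R} {W : Opens T'} : Sec M ((imO g).obj W) ≃+ Sec ((rM g ψ).obj M) W := AddEquiv.refl _

theorem toR_smul {M : Mod R} {W : Opens T'} (r : O R' W) (m : Sec M ((imO g).obj W)) :
    toR g ψ (cψ g ψ W r • m) = r • toR g ψ m := rfl

theorem toR_res {M : Mod R} {W W' : Opens T'} (h : W' ≤ W) (m : Sec M ((imO g).obj W)) :
    toR g ψ (res M ((imO g).map (homOfLE h)).le m) = res ((rM g ψ).obj M) h (toR g ψ m) := rfl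

theorem app_rM {M N : Mod R} (φ : M ⟶ N) {W : Opens T'} (m : Sec M ((imO g).obj W)) :
    app ((rM g ψ).map φ) W (toR g ψ m) = toR g ψ (app φ _ m) := rfl

/-- The underlying abelian sheaf of the restriction. -/
def toAbIso : rM g ψ ⋙ SheafOfModules.toSheaf (ringSheaf R') ≅ SheafOfModules.toSheaf (ringSheaf R) ⋙ opnRes g :=
  Iso.refl _

theorem exact_rM (S : ShortComplex (Mod R)) (hS : S.Exact) : (S.map (rM g ψ)).Exact := by
  have h1 : ((S.map (SheafOfModules.toSheaf (ringSheaf R))).map (opnRes g)).Exact :=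
    (hS.map (SheafOfModules.toSheaf (ringSheaf R))).map (opnRes g)
  have h2 : ((S.map (rM g ψ)).map (SheafOfModules.toSheaf (ringSheaf R'))).Exact := h1
  exact ((S.map (rM g ψ)).exact_map_iff_of_faithful (SheafOfModules.toSheaf (ringSheaf R'))).1 h2

instance : PreservesFiniteLimits (rM g ψ) :=
  ((rM g ψ).preservesFiniteLimits_iff_forall_exact_map_and_mono).2 fun S hS =>
    ⟨exact_rM g ψ S hS.exact, by
      have := hS.mono_f
      rw [mono_iff_app]
      intro W
      exact (mono_iff_app S.f).1 inferInstance ((imO g).obj W)⟩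

instance : PreservesFiniteColimits (rM g ψ) :=
  ((rM g ψ).preservesFiniteColimits_iff_forall_exact_map_and_epi).2 fun S hS =>
    ⟨exact_rM g ψ S hS.exact, by
      have := hS.epi_g
      have h1 : Epi ((SheafOfModules.toSheaf (ringSheaf R')).map ((rM g ψ).map S.g)) :=
        inferInstanceAs (Epi ((opnRes g).map ((SheafOfModules.toSheaf (ringSheaf R)).map S.g)))
      exact (SheafOfModules.toSheaf (ringSheaf R')).epi_of_epi_map h1⟩

/-- Restrictions of injective modules are flasque. -/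
theorem subsingleton_HU (I : Mod R) [Injective I] (W : Opens T') (n : ℕ) :
    Subsingleton (CohTop.HU (ModSite.toAb ((rM g ψ).obj I)) (n + 1) W) := by
  have h1 : TopCat.Sheaf.IsFlasque (ModSite.toAb I) :=
    { epi := fun {U V} i => by
        rw [AddCommGrpCat.epi_iff_surjective]
        exact K181.PushCoprod.res_surjective_of_injective I i.unop.le }
  have h2 : TopCat.Sheaf.IsFlasque ((opnRes g).obj (ModSite.toAb I)) := isFlasque_opnRes g _
  exact Groth.Agent.CohtopA.Flasque.subsingleton_HU_succ ((opnRes g).obj (ModSite.toAb I)) W n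

section MulP

variable {X : TopCat.{u}} {Q : Sheaf (Opens.grothendieckTopology X) CommRingCat.{u}}

/-- The sections of `M` over `U` as morphisms out of `P(U)`. -/
def hs (U : Opens X) (M : Mod Q) : ((PO Q).obj U ⟶ M) ≃ Sec M U := homEq (ModSite.ringSh Q) U M

theorem hs_comp {U : Opens X} {M N : Mod Q} (f : (PO Q).obj U ⟶ M) (φ : M ⟶ N) :
    hs U N (f ≫ φ) = app φ U (hs U M f) := homEq_comp f φ

theorem hs_map {U V : Opens X} (h : V ≤ U) {M : Mod Q} (f : (PO Q).obj U ⟶ M) :
    hs V M ((PO Q).map (homOfLE h) ≫ f) = res M h (hs U M f) := homEq_map (homOfLE h) f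

theorem hs_id_comp {U : Opens X} {M : Mod Q} (f : (PO Q).obj U ⟶ M) :
    hs U M f = app f U (hs U _ (𝟙 _)) := by
  rw [← hs_comp, Category.id_comp]

/-- Multiplication by a section on `P(U)`. -/
def mulP (U : Opens X) (b : O Q U) : (PO Q).obj U ⟶ (PO Q).obj U := (hs U _).symm (b • hs U _ (𝟙 _))

theorem hs_mulP_comp {U : Opens X} (b : O Q U) {M : Mod Q} (f : (PO Q).obj U ⟶ M) :
    hs U M (mulP U b ≫ f) = b • hs U M f := by
  rw [hs_comp, mulP, Equiv.apply_symm_apply, map_smul, ← hs_id_comp]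

theorem mulP_map {U V : Opens X} (h : V ≤ U) (b : O Q U) :
    (PO Q).map (homOfLE h) ≫ mulP U b = mulP V (resO h b) ≫ (PO Q).map (homOfLE h) := by
  apply (hs V _).injective
  rw [hs_map, hs_mulP_comp]
  have h1 : hs U _ (mulP U b) = b • hs U _ (𝟙 ((PO Q).obj U)) := Equiv.apply_symm_apply _ _
  have h2 := hs_map h (𝟙 ((PO Q).obj U))
  rw [Category.comp_id] at h2
  rw [h1, res_smul, h2]

end MulP

section Res

/-- The universal map `P(W) ⟶ P(U)|` for `U = g(W)`. -/
def cR (W : Opens T') (U : Opens T) (e : (imO g).obj W = U) : (PO R').obj W ⟶ (rM g ψ).obj ((PO R).obj U) :=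
  (hs W _).symm (toR g ψ (res _ e.le (hs U _ (𝟙 ((PO R).obj U)))))

theorem hs_cR_comp (W : Opens T') (U : Opens T) (e : (imO g).obj W = U) {M : Mod R} (f : (PO R).obj U ⟶ M) :
    hs W _ (cR g ψ W U e ≫ (rM g ψ).map f) = toR g ψ (res M e.le (hs U M f)) := by
  rw [hs_comp, cR, Equiv.apply_symm_apply, app_rM, app_res, ← hs_id_comp]

theorem cR_bijective (W : Opens T') (U : Opens T) (e : (imO g).obj W = U) (M : Mod R) :
    Function.Bijective (fun f : (PO R).obj U ⟶ M => cR g ψ W U e ≫ (rM g ψ).map f) := by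
  refine ((hs W _).bijective.of_comp_iff' _).1 ?_
  have h1 : (hs W _) ∘ (fun f : (PO R).obj U ⟶ M => cR g ψ W U e ≫ (rM g ψ).map f) =
      fun f => toR g ψ (res M e.le (hs U M f)) := funext fun f => hs_cR_comp g ψ W U e f
  rw [h1]
  subst e
  have h2 : (fun f => toR g ψ (res M (le_refl ((imO g).obj W)) (hs ((imO g).obj W) M f))) =
      (toR g ψ) ∘ (hs ((imO g).obj W) M) := funext fun f => by rw [res_self]; rfl
  rw [h2]
  exact (toR g ψ).bijective.comp (hs _ M).bijective

/-- Compatibility with multiplication by sections. -/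
theorem mulP_cR (W : Opens T') (U : Opens T) (e : (imO g).obj W = U) (b : O R U) (b' : O R' W)
    (hb : cψ g ψ W b' = resO e.le b) :
    mulP W b' ≫ cR g ψ W U e = cR g ψ W U e ≫ (rM g ψ).map (mulP U b) := by
  apply (hs W _).injective
  rw [hs_mulP_comp, hs_cR_comp]
  have h1 : hs U _ (mulP U b) = b • hs U _ (𝟙 ((PO R).obj U)) := Equiv.apply_symm_apply _ _
  have h2 : hs W _ (cR g ψ W U e) = toR g ψ (res _ e.le (hs U _ (𝟙 ((PO R).obj U)))) := Equiv.apply_symm_apply _ _
  rw [h1, h2, res_smul, ← hb, toR_smul]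

variable [HasExt.{w} (Mod R)] [HasExt.{w'} (Mod R')]

/-- `Ext^q(P(g W), F) ≃+ Ext^q(P(W), F|)`. -/
def iE (W : Opens T') (U : Opens T) (e : (imO g).obj W = U) (F : Mod R) (q : ℕ) :
    Ext.{w} ((PO R).obj U) F q ≃+ Ext.{w'} ((PO R').obj W) ((rM g ψ).obj F) q :=
  haveI := K578.Der.enoughInjectives R
  Groth.Agent.CohtopA.ExtAdj.extOfHomEquiv (rM g ψ) (cR g ψ W U e) (cR_bijective g ψ W U e)
    (fun I _ n => (K578.ModExtPM.subsingleton_ext_iff R' _ (n + 1) W).2 (subsingleton_HU g ψ I W n)) F q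

theorem iE_comp (W : Opens T') (U : Opens T) (e : (imO g).obj W = U) {F G : Mod R} (φ : F ⟶ G) (q : ℕ)
    (x : Ext.{w} ((PO R).obj U) F q) :
    iE.{w, w'} g ψ W U e G q (x.comp (Ext.mk₀ φ) (add_zero q)) =
      (iE.{w, w'} g ψ W U e F q x).comp (Ext.mk₀ ((rM g ψ).map φ)) (add_zero q) := by
  refine (Groth.Agent.CohtopA.ExtAdj.extOfHom_comp (rM g ψ) (cR g ψ W U e) x (Ext.mk₀ φ) (add_zero q)).trans ?_
  rw [Ext.mapExactFunctor_mk₀]
  rfl

theorem iE_mulP (W : Opens T') (U : Opens T) (e : (imO g).obj W = U) (b : O R U) (b' : O R' W)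
    (hb : cψ g ψ W b' = resO e.le b) (F : Mod R) (q : ℕ) (x : Ext.{w} ((PO R).obj U) F q) :
    iE.{w, w'} g ψ W U e F q ((Ext.mk₀ (mulP U b)).comp x (zero_add q)) =
      (Ext.mk₀ (mulP W b')).comp (iE.{w, w'} g ψ W U e F q x) (zero_add q) :=
  Groth.Agent.CohtopA.ExtAdj.extOfHom_precomp (rM g ψ) (cR g ψ W U e) (cR g ψ W U e) (mulP W b') (mulP U b)
    (mulP_cR g ψ W U e b b' hb) x

end Res

section Central

universe v₁ u₁

variable {C : Type u₁} [Category.{v₁} C] [Abelian C] [HasExt.{w} C] [HasInjectiveResolutions C]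

/-- Endomorphisms of the identity functor are central. -/
theorem comp_central (z : 𝟭 C ⟶ 𝟭 C) {P M : C} {q : ℕ} (x : Ext.{w} P M q) :
    x.comp (Ext.mk₀ (z.app M)) (add_zero q) = (Ext.mk₀ (z.app P)).comp x (zero_add q) := by
  let I := injectiveResolution M
  obtain ⟨y, hy, rfl⟩ := I.extMk_surjective x (q + 1) rfl
  let ψ : InjectiveResolution.Hom I I (z.app M) :=
    { hom := { f := fun n => z.app (I.cocomplex.X n), comm' := fun i j _ => (z.naturality (I.cocomplex.d i j)).symm }
      ι_f_zero_comp_hom_f_zero := by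
        rw [CochainComplex.single₀_map_f_zero]
        exact (z.naturality (I.ι.f 0)) }
  rw [InjectiveResolution.extMk_comp_mk₀ y (q + 1) rfl hy ψ, I.mk₀_comp_extMk y (q + 1) rfl hy]
  congr 1
  exact z.naturality y

end Central

end K178.ORes
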