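import Groth.Agent.FSch.K178.Alpha
import Groth.Agent.FBlow.K788.Restr
import Groth.Agent.FCompl.K29.FmlMor
import Groth.Agent.FCompl.K28.RestrictSys

/-!
# Restriction of modules along an open immersion `j : 𝔘 ⟶ 𝔛` of formal systems

* `sg W : O_𝔛(j W) → O_𝔘(W)`, bijective; `rF : ModF 𝔛 ⥤ ModF 𝔘`, exact;
* `isCohF_rF`: restrictions of coherent modules are coherent;
* `exists_be`: `(rF 𝔉)_k = rF (𝔉_k)` compatibly with the maps from `rF 𝔉`.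
-/

set_option autoImplicit false
set_option linter.style.haveILetI false

universe u

open CategoryTheory CategoryTheory.Limits Opposite TopologicalSpace Topology AlgebraicGeometry

noncomputable section

namespace K178.OpenF

open FSch K788.Osh K788.SysB K29.RExact K29.Fml K29.RPres Groth.Agent.Gaga.H977.OpenRes K178.ORes
open K29.RSec (O resO Mod app hom_ext eq_of_forall_nhds ringSheaf)

section IsoEpi

open K29.RSec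

variable {T : TopCat.{u}} {R : Sheaf (Opens.grothendieckTopology T) CommRingCat.{u}}

theorem comp_eq_zero_of_local {A B C : Mod R} (f : A ⟶ B) (g : A ⟶ C) (P : Set (Opens T))
    (hP : ∀ (V : Opens T) (x : T), x ∈ V → ∃ W ∈ P, x ∈ W ∧ W ≤ V)
    (h : ∀ V ∈ P, ∀ t : Sec A V, app f V t = 0 → app g V t = 0) : kernel.ι f ≫ g = 0 := by
  refine hom_ext fun V s => eq_of_forall_nhds _ _ _ fun x hx => ?_
  obtain ⟨W, hWP, hxW, hWV⟩ := hP V x hx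
  refine ⟨W, hxW, hWV, ?_⟩
  have h1 : kernel.ι f ≫ f = 0 := kernel.condition f
  have h2 := congrArg (fun z => app z W (res _ hWV s)) h1
  have h3 : app (kernel.ι f ≫ g) W (res _ hWV s) = 0 := h W hWP _ h2
  have h4 : app (0 : kernel f ⟶ C) V s = 0 := rfl
  rw [← app_res, h3, h4, map_zero]

/-- Two epimorphisms with the same kernel on a basis have isomorphic targets. -/
theorem exists_iso_of_epi {A B C : Mod R} (f : A ⟶ B) (g : A ⟶ C) [Epi f] [Epi g] (P : Set (Opens T))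
    (hP : ∀ (V : Opens T) (x : T), x ∈ V → ∃ W ∈ P, x ∈ W ∧ W ≤ V)
    (h : ∀ V ∈ P, ∀ t : Sec A V, app f V t = 0 ↔ app g V t = 0) : ∃ e : B ≅ C, f ≫ e.hom = g := by
  have h1 := comp_eq_zero_of_local f g P hP fun V hV t => (h V hV t).1
  have h2 := comp_eq_zero_of_local g f P hP fun V hV t => (h V hV t).2
  refine ⟨⟨Abelian.epiDesc f g h1, Abelian.epiDesc g f h2, ?_, ?_⟩, Abelian.comp_epiDesc f g h1⟩
  · rw [← cancel_epi f, ← Category.assoc, Abelian.comp_epiDesc, Abelian.comp_epiDesc, Category.comp_id]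
  · rw [← cancel_epi g, ← Category.assoc, Abelian.comp_epiDesc, Abelian.comp_epiDesc, Category.comp_id]

end IsoEpi

theorem mem_smul_top_iff {A B M N : Type*} [CommRing A] [CommRing B] [AddCommGroup M] [AddCommGroup N] [Module A M]
    [Module B N] (s : A →+* B) (hs : Function.Surjective s) (τ : M ≃+ N) (hτ : ∀ (a : A) (m : M), τ (a • m) = s a • τ m)
    (I : Ideal A) (J : Ideal B) (hIJ : ∀ a, a ∈ I ↔ s a ∈ J) (m : M) :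
    m ∈ (I • ⊤ : Submodule A M) ↔ τ m ∈ (J • ⊤ : Submodule B N) := by
  constructor
  · intro hm
    refine Submodule.smul_induction_on hm (fun a ha x _ => ?_) fun x y hx hy => ?_
    · rw [hτ]
      exact Submodule.smul_mem_smul ((hIJ a).1 ha) Submodule.mem_top
    · rw [map_add]; exact Submodule.add_mem _ hx hy
  · intro hm
    suffices H : ∀ n : N, n ∈ (J • ⊤ : Submodule B N) → τ.symm n ∈ (I • ⊤ : Submodule A M) by
      simpa using H (τ m) hm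
    intro n hn
    refine Submodule.smul_induction_on hn (fun b hb x _ => ?_) fun x y hx hy => ?_
    · obtain ⟨a, rfl⟩ := hs b
      obtain ⟨y, rfl⟩ := τ.surjective x
      rw [← hτ, AddEquiv.symm_apply_apply]
      exact Submodule.smul_mem_smul ((hIJ a).2 hb) Submodule.mem_top
    · rw [map_add]; exact Submodule.add_mem _ hx hy

variable {𝔘 𝔛 : FSch.Sys.{u}} (h𝔘 : 𝔘.IsFormal) (h𝔛 : 𝔛.IsFormal) (j : 𝔘 ⟶ 𝔛) [hj : Fact (OpenImm j)]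

/-- The map of common spaces. -/
abbrev gj : (𝔘.X 0).carrier ⟶ (𝔛.X 0).carrier := ((j : Hom 𝔘 𝔛).app 0).base

instance : Fact (IsOpenEmbedding (gj j)) :=
  ⟨haveI := hj.out 0; ((j : Hom 𝔘 𝔛).app 0).isOpenEmbedding⟩

theorem le_pre (W : (𝔘.X 0).Opens) : W ≤ pre j ((imO (gj j)).obj W) := fun x hx => ⟨x, hx, rfl⟩

theorem pre_le (W : (𝔘.X 0).Opens) : pre j ((imO (gj j)).obj W) ≤ W := by
  rintro x ⟨y, hy, e⟩
  have : y = x := (Fact.out : IsOpenEmbedding (gj j)).injective e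
  exact this ▸ hy

theorem im_pre_le (V : (𝔛.X 0).Opens) : (imO (gj j)).obj (pre j V) ≤ V := by
  rintro _ ⟨x, hx, rfl⟩
  exact hx

theorem im_le_rg (W : (𝔘.X 0).Opens) : (imO (gj j)).obj W ≤ rg j hj.out := by
  rintro _ ⟨x, _, rfl⟩
  exact ⟨x, rfl⟩

/-- `O_𝔛(j W) → O_𝔘(W)`. -/
def sg (W : (𝔘.X 0).Opens) : Sec 𝔛 h𝔛 ((imO (gj j)).obj W) →+* Sec 𝔘 h𝔘 W :=
  (res 𝔘 h𝔘 (le_pre j W)).comp (sh h𝔘 j h𝔛 ((imO (gj j)).obj W))

theorem res_bijective_of_ge {U V : (𝔘.X 0).Opens} (i : V ≤ U) (i' : U ≤ V) : Function.Bijective (res 𝔘 h𝔘 i) := by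
  constructor
  · intro a b e
    have := congrArg (res 𝔘 h𝔘 i') e
    rwa [res_res, res_res, res_self, res_self] at this
  · intro b
    exact ⟨res 𝔘 h𝔘 i' b, by rw [res_res, res_self]⟩

theorem sg_bijective (W : (𝔘.X 0).Opens) : Function.Bijective (sg h𝔘 h𝔛 j W) :=
  (res_bijective_of_ge h𝔘 (le_pre j W) (pre_le j W)).comp (sh_bijective h𝔘 h𝔛 hj.out (im_le_rg j W))

theorem sg_res {W W' : (𝔘.X 0).Opens} (h : W' ≤ W) (s : Sec 𝔛 h𝔛 ((imO (gj j)).obj W)) :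
    sg h𝔘 h𝔛 j W' (res 𝔛 h𝔛 ((imO (gj j)).map (homOfLE h)).le s) = res 𝔘 h𝔘 h (sg h𝔘 h𝔛 j W s) := by
  change res 𝔘 h𝔘 _ (sh h𝔘 j h𝔛 _ (res 𝔛 h𝔛 _ s)) = res 𝔘 h𝔘 h (res 𝔘 h𝔘 _ (sh h𝔘 j h𝔛 _ s))
  rw [sh_res, res_res, res_res]

/-- The comparison of the structure sheaves. -/
def sgS : ((imO (gj j)).sheafPushforwardContinuous CommRingCat.{u} (Opens.grothendieckTopology (𝔘.X 0).carrier)
    (Opens.grothendieckTopology (𝔛.X 0).carrier)).obj (𝔛.Osh h𝔛) ⟶ 𝔘.Osh h𝔘 :=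
  ⟨{ app := fun W => CommRingCat.ofHom (sg h𝔘 h𝔛 j W.unop)
     naturality := fun W W' i => by
       ext s
       exact sg_res h𝔘 h𝔛 j i.unop.le s }⟩

instance : IsIso (sgS h𝔘 h𝔛 j) := by
  have h1 : ∀ W, IsIso ((sgS h𝔘 h𝔛 j).hom.app W) := fun W =>
    (ConcreteCategory.isIso_iff_bijective (C := CommRingCat.{u}) ((sgS h𝔘 h𝔛 j).hom.app W)).2
      (sg_bijective h𝔘 h𝔛 j W.unop)
  have h2 : IsIso (sgS h𝔘 h𝔛 j).hom := NatIso.isIso_of_isIso_app _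
  have h3 : IsIso ((sheafToPresheaf _ _).map (sgS h𝔘 h𝔛 j)) := h2
  exact isIso_of_reflects_iso (sgS h𝔘 h𝔛 j) (sheafToPresheaf _ _)

/-- The inverse comparison. -/
abbrev psi : 𝔘.Osh h𝔘 ⟶ ((imO (gj j)).sheafPushforwardContinuous CommRingCat.{u}
    (Opens.grothendieckTopology (𝔘.X 0).carrier) (Opens.grothendieckTopology (𝔛.X 0).carrier)).obj (𝔛.Osh h𝔛) :=
  inv (sgS h𝔘 h𝔛 j)

theorem cψ_sg (W : (𝔘.X 0).Opens) (s : Sec 𝔛 h𝔛 ((imO (gj j)).obj W)) :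
    cψ (gj j) (psi h𝔘 h𝔛 j) W (sg h𝔘 h𝔛 j W s) = s := by
  have h1 : sgS h𝔘 h𝔛 j ≫ psi h𝔘 h𝔛 j = 𝟙 _ := IsIso.hom_inv_id _
  have h2 := congrArg (fun z => (z.hom.app (op W)) s) h1
  exact h2

theorem sg_cψ (W : (𝔘.X 0).Opens) (s : Sec 𝔘 h𝔘 W) :
    sg h𝔘 h𝔛 j W (cψ (gj j) (psi h𝔘 h𝔛 j) W s) = s := by
  have h1 : psi h𝔘 h𝔛 j ≫ sgS h𝔘 h𝔛 j = 𝟙 _ := IsIso.inv_hom_id _
  have h2 := congrArg (fun z => (z.hom.app (op W)) s) h1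
  exact h2

/-- Restriction of modules along `j`. -/
abbrev rF : ModF 𝔛 h𝔛 ⥤ ModF 𝔘 h𝔘 := rM (gj j) (psi h𝔘 h𝔛 j)

/-- Sections of the restriction. -/
abbrev tF {M : ModF 𝔛 h𝔛} {W : (𝔘.X 0).Opens} : K29.RSec.Sec M ((imO (gj j)).obj W) ≃+ K29.RSec.Sec ((rF h𝔘 h𝔛 j).obj M) W :=
  toR (gj j) (psi h𝔘 h𝔛 j)

theorem tF_smul {M : ModF 𝔛 h𝔛} {W : (𝔘.X 0).Opens} (a : O (𝔛.Osh h𝔛) ((imO (gj j)).obj W))
    (m : K29.RSec.Sec M ((imO (gj j)).obj W)) : tF h𝔘 h𝔛 j (a • m) = (show O (𝔘.Osh h𝔘) W from sg h𝔘 h𝔛 j W a) • tF h𝔘 h𝔛 j m := by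
  rw [← toR_smul]
  congr 2
  exact (cψ_sg h𝔘 h𝔛 j W a).symm

section Levels

theorem pr_sg_eq_zero_iff (n : ℕ) (W : (𝔘.X 0).Opens) (a : Sec 𝔛 h𝔛 ((imO (gj j)).obj W)) :
    pr 𝔘 h𝔘 n W (sg h𝔘 h𝔛 j W a) = 0 ↔ pr 𝔛 h𝔛 n _ a = 0 := by
  change pr 𝔘 h𝔘 n W (res 𝔘 h𝔘 (le_pre j W) (sh h𝔘 j h𝔛 _ a)) = 0 ↔ _
  rw [pr_res, pr_sh]
  have h1 : Function.Injective (lres 𝔘 h𝔘 n (le_pre j W)) := by
    intro x y e
    have := congrArg (lres 𝔘 h𝔘 n (pre_le j W)) e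
    rw [lres_lres, lres_lres] at this
    have hs : ∀ z, lres 𝔘 h𝔘 n ((le_pre j W).trans' (pre_le j W)) z = z := by
      intro z
      change (𝔘.X n).presheaf.map _ z = z
      have : (homOfLE (FBlow.lvU_mono 𝔘 h𝔘 n ((le_pre j W).trans' (pre_le j W)))).op = 𝟙 _ := rfl
      rw [this, CategoryTheory.Functor.map_id]
      rfl
    rwa [hs, hs] at this
  have h2 := (lsh_bijective h𝔘 h𝔛 hj.out n (im_le_rg j W)).1
  constructor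
  · intro e
    apply h2
    apply h1
    rw [e, map_zero, map_zero]
  · intro e
    rw [e, map_zero, map_zero]

theorem sg_mem_iff (k : ℕ) (W : (𝔘.X 0).Opens) (a : O (𝔛.Osh h𝔛) ((imO (gj j)).obj W)) :
    prO h𝔛 k _ a = 0 ↔ prO h𝔘 k W (show O (𝔘.Osh h𝔘) W from sg h𝔘 h𝔛 j W a) = 0 :=
  (pr_sg_eq_zero_iff h𝔘 h𝔛 j k W a).symm

end Levels

section Coh

open K29.RSec (resO_resO)

/-- The ring map, with the types of `RSec`. -/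
def sO (W : (𝔘.X 0).Opens) : O (𝔛.Osh h𝔛) ((imO (gj j)).obj W) →+* O (𝔘.Osh h𝔘) W := sg h𝔘 h𝔛 j W

theorem sO_surjective (W : (𝔘.X 0).Opens) : Function.Surjective (sO h𝔘 h𝔛 j W) := (sg_bijective h𝔘 h𝔛 j W).2

theorem sO_injective (W : (𝔘.X 0).Opens) : Function.Injective (sO h𝔘 h𝔛 j W) := (sg_bijective h𝔘 h𝔛 j W).1

theorem sO_resO {W W' : (𝔘.X 0).Opens} (h : W' ≤ W) (s : O (𝔛.Osh h𝔛) ((imO (gj j)).obj W)) :
    sO h𝔘 h𝔛 j W' (resO ((imO (gj j)).map (homOfLE h)).le s) = resO h (sO h𝔘 h𝔛 j W s) := sg_res h𝔘 h𝔛 j h s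

theorem tF_smul' {M : ModF 𝔛 h𝔛} {W : (𝔘.X 0).Opens} (a : O (𝔛.Osh h𝔛) ((imO (gj j)).obj W))
    (m : K29.RSec.Sec M ((imO (gj j)).obj W)) : tF h𝔘 h𝔛 j (a • m) = sO h𝔘 h𝔛 j W a • tF h𝔘 h𝔛 j m :=
  tF_smul h𝔘 h𝔛 j a m

theorem tF_res {M : ModF 𝔛 h𝔛} {W W' : (𝔘.X 0).Opens} (h : W' ≤ W) (m : K29.RSec.Sec M ((imO (gj j)).obj W)) :
    tF h𝔘 h𝔛 j (K29.RSec.res M ((imO (gj j)).map (homOfLE h)).le m) = K29.RSec.res ((rF h𝔘 h𝔛 j).obj M) h (tF h𝔘 h𝔛 j m) :=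
  toR_res (gj j) (psi h𝔘 h𝔛 j) h m

theorem exists_small {V : (𝔘.X 0).Opens} {V₁ : (𝔛.X 0).Opens} (h₁ : V₁ ≤ (imO (gj j)).obj V) (x : 𝔘.X 0)
    (hx : gj j x ∈ V₁) : ∃ (V' : (𝔘.X 0).Opens) (_ : V' ≤ V), x ∈ V' ∧ (imO (gj j)).obj V' ≤ V₁ :=
  ⟨pre j V₁, fun _ hy => pre_le j V (h₁ hy), hx, im_pre_le j V₁⟩

theorem gen_rF {M : ModF 𝔛 h𝔛} {W : (𝔘.X 0).Opens} {n : ℕ} {s : Fin n → K29.RSec.Sec M ((imO (gj j)).obj W)}
    (h : Gen M ((imO (gj j)).obj W) s) : Gen ((rF h𝔘 h𝔛 j).obj M) W fun i => tF h𝔘 h𝔛 j (s i) := by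
  intro V hV t x hx
  obtain ⟨t, rfl⟩ := (tF h𝔘 h𝔛 j).surjective t
  obtain ⟨V₁, h₁, hx₁, c, hc⟩ := h ((imO (gj j)).obj V) ((imO (gj j)).map (homOfLE hV)).le t (gj j x) ⟨x, hx, rfl⟩
  obtain ⟨V', hV', hxV', hV₁⟩ := exists_small j h₁ x hx₁
  refine ⟨V', hV', hxV', fun i => sO h𝔘 h𝔛 j V' (resO hV₁ (c i)), ?_⟩
  rw [← tF_res h𝔘 h𝔛 j hV', ← K29.RSec.res_res M h₁ hV₁, hc, map_sum, map_sum]
  refine Finset.sum_congr rfl fun i _ => ?_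
  rw [K29.RSec.res_smul, tF_smul', K29.RSec.res_res, ← tF_res h𝔘 h𝔛 j (hV'.trans hV)]

theorem rel_rF {M : ModF 𝔛 h𝔛} {W : (𝔘.X 0).Opens} {n m : ℕ} {s : Fin n → K29.RSec.Sec M ((imO (gj j)).obj W)}
    {r : Fin m → Fin n → O (𝔛.Osh h𝔛) ((imO (gj j)).obj W)} (h : Rel M ((imO (gj j)).obj W) s r) :
    Rel ((rF h𝔘 h𝔛 j).obj M) W (fun i => tF h𝔘 h𝔛 j (s i)) fun k i => sO h𝔘 h𝔛 j W (r k i) := by
  refine ⟨fun k => ?_, fun V hV c hc x hx => ?_⟩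
  · have h1 := congrArg (tF h𝔘 h𝔛 j) (h.1 k)
    rw [map_sum, map_zero] at h1
    rw [← h1]
    exact Finset.sum_congr rfl fun i _ => (tF_smul' h𝔘 h𝔛 j _ _).symm
  · choose a ha using fun i => sO_surjective h𝔘 h𝔛 j V (c i)
    have h1 : ∑ i, a i • K29.RSec.res M ((imO (gj j)).map (homOfLE hV)).le (s i) = 0 := by
      apply (tF h𝔘 h𝔛 j).injective
      rw [map_zero, ← hc, map_sum]
      refine Finset.sum_congr rfl fun i _ => ?_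
      rw [tF_smul', ha, tF_res h𝔘 h𝔛 j hV]
    obtain ⟨V₁, h₁, hx₁, d, hd⟩ := h.2 ((imO (gj j)).obj V) ((imO (gj j)).map (homOfLE hV)).le a h1 (gj j x) ⟨x, hx, rfl⟩
    obtain ⟨V', hV', hxV', hV₁⟩ := exists_small j h₁ x hx₁
    refine ⟨V', hV', hxV', fun i => sO h𝔘 h𝔛 j V' (resO hV₁ (d i)), fun i => ?_⟩
    rw [← ha, ← sO_resO h𝔘 h𝔛 j hV', ← resO_resO h₁ hV₁, hd, map_sum, map_sum]
    refine Finset.sum_congr rfl fun k _ => ?_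
    rw [map_mul, map_mul, resO_resO, ← sO_resO h𝔘 h𝔛 j (hV'.trans hV)]

/-- Restrictions of coherent modules are coherent. -/
theorem isCohF_rF {M : ModF 𝔛 h𝔛} (hM : IsCohF 𝔛 h𝔛 M) : IsCohF 𝔘 h𝔘 ((rF h𝔘 h𝔛 j).obj M) := by
  have hM' := (Groth.Agent.Gaga.H976.TM3.isFinitePresentation_iff _).1 hM
  refine (Groth.Agent.Gaga.H976.TM3.isFinitePresentation_iff _).2 fun x => ?_
  obtain ⟨W, hW, n, m, s, r, hs, hr⟩ := (fpAt_iff M (gj j x)).1 (hM' (gj j x))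
  exact (fpAt_iff _ x).2 ⟨pre j W, hW, n, m, _, _, gen_rF h𝔘 h𝔛 j (hs.res (im_pre_le j W)),
    rel_rF h𝔘 h𝔛 j (hr.res (im_pre_le j W))⟩

end Coh

end K178.OpenF
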