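import Groth.Agent.FSch.K178.OpenF

/-!
# Levels of a coherent module and restriction along an open immersion

* `L`, `un`: the module `𝔉_k = (u_k)_* u_k^* 𝔉` and the map `𝔉 ⟶ 𝔉_k`; `epi_un`;
* `exists_be`: `rF (𝔉_k) ≅ (rF 𝔉)_k` compatibly with the maps from `rF 𝔉`; `be_trans`.
-/

set_option autoImplicit false
set_option linter.style.haveILetI false

universe u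

open CategoryTheory CategoryTheory.Limits Opposite TopologicalSpace Topology AlgebraicGeometry

noncomputable section

namespace K178.OpenF

open FSch K788.Osh K788.SysB K29.RExact K29.Fml K29.RPres Groth.Agent.Gaga.H977.OpenRes K178.ORes
open K29.RSec (O resO Mod app hom_ext eq_of_forall_nhds ringSheaf)

section Un

variable (𝔛 : FSch.Sys.{u}) (h : 𝔛.IsFormal)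

/-- The module `𝔉_k = (u_k)_* u_k^* 𝔉`. -/
abbrev L (k : ℕ) (𝔉 : ModF 𝔛 h) : ModF 𝔛 h := (levelMor 𝔛 h k).push.obj ((levelMor 𝔛 h k).pull.obj 𝔉)

/-- The map `𝔉 ⟶ 𝔉_k`. -/
abbrev un (k : ℕ) (𝔉 : ModF 𝔛 h) : 𝔉 ⟶ L 𝔛 h k 𝔉 := (levelMor 𝔛 h k).adj.unit.app 𝔉

variable {𝔛}

/-- The affine opens of the common space. -/
def affs : Set ((𝔛.X 0).Opens) := {V | IsAffineOpen (𝔛.lvU h 0 V)}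

theorem affs_basis (V : (𝔛.X 0).Opens) (x : 𝔛.X 0) (hx : x ∈ V) : ∃ W ∈ affs h, x ∈ W ∧ W ≤ V := by
  obtain ⟨V', h1, h2, h3⟩ := exists_affine_nhd h x V hx
  exact ⟨V', h3, h1, h2⟩

variable (h𝔛 : 𝔛.IsLocNoethFormal) {𝔉 : ModF 𝔛 h𝔛.1} (h𝔉 : IsCohF 𝔛 h𝔛.1 𝔉)

include h𝔉 in
theorem epi_un (k : ℕ) : Epi (un 𝔛 h𝔛.1 k 𝔉) := by
  rw [epi_iff_local]
  intro V t x hx
  obtain ⟨V', hxV', hV', hV'a⟩ := exists_affine_nhd h𝔛.1 x V hx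
  obtain ⟨s, hs⟩ := ((main h𝔛 h𝔉 hV'a).2.1 k).1 (K29.RSec.res _ (lvU_mono h𝔛.1 k hV') t)
  exact ⟨V', hxV', hV', s, hs⟩

include h𝔉 in
theorem app_un_eq_zero_iff (k : ℕ) {V : (𝔛.X 0).Opens} (hV : IsAffineOpen (𝔛.lvU h𝔛.1 0 V)) (t : K29.RSec.Sec 𝔉 V) :
    app (un 𝔛 h𝔛.1 k 𝔉) V t = 0 ↔ t ∈ (II h𝔛.1 V ^ (k + 1) • ⊤ : Submodule (O (𝔛.Osh h𝔛.1) V) (K29.RSec.Sec 𝔉 V)) :=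
  ((main h𝔛 h𝔉 hV).2.1 k).2 t

end Un

variable {𝔘 𝔛 : FSch.Sys.{u}} (h𝔘 : 𝔘.IsLocNoethFormal) (h𝔛 : 𝔛.IsLocNoethFormal) (j : 𝔘 ⟶ 𝔛) [hj : Fact (OpenImm j)]
  {𝔉 : ModF 𝔛 h𝔛.1} (h𝔉 : IsCohF 𝔛 h𝔛.1 𝔉)

theorem isAffineOpen_im {W : (𝔘.X 0).Opens} (hW : IsAffineOpen (𝔘.lvU h𝔘.1 0 W)) :
    IsAffineOpen (𝔛.lvU h𝔛.1 0 ((imO (gj j)).obj W)) := by
  rw [lvU_zero] at hW ⊢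
  have := hj.out 0
  exact hW.image_of_isOpenImmersion ((j : Hom 𝔘 𝔛).app 0)

include h𝔉 in
theorem app_un_iff (k : ℕ) {W : (𝔘.X 0).Opens} (hW : IsAffineOpen (𝔘.lvU h𝔘.1 0 W))
    (t : K29.RSec.Sec 𝔉 ((imO (gj j)).obj W)) :
    app ((rF h𝔘.1 h𝔛.1 j).map (un 𝔛 h𝔛.1 k 𝔉)) W (tF h𝔘.1 h𝔛.1 j t) = 0 ↔
      app (un 𝔘 h𝔘.1 k ((rF h𝔘.1 h𝔛.1 j).obj 𝔉)) W (tF h𝔘.1 h𝔛.1 j t) = 0 := by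
  have hW' := isAffineOpen_im h𝔘 h𝔛 j hW
  rw [app_un_eq_zero_iff h𝔘 (isCohF_rF h𝔘.1 h𝔛.1 j h𝔉) k hW]
  refine Iff.trans (b := app (un 𝔛 h𝔛.1 k 𝔉) _ t = 0) ?_ ?_
  · exact Iff.rfl
  · rw [app_un_eq_zero_iff h𝔛 h𝔉 k hW']
    refine mem_smul_top_iff (sO h𝔘.1 h𝔛.1 j W) (sO_surjective h𝔘.1 h𝔛.1 j W) (tF h𝔘.1 h𝔛.1 j)
      (tF_smul' h𝔘.1 h𝔛.1 j) _ _ (fun a => ?_) t
    rw [mem_II_pow h𝔛 hW', mem_II_pow h𝔘 hW]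
    exact sg_mem_iff h𝔘.1 h𝔛.1 j k W a

include h𝔉 in
theorem epi_rF_un (k : ℕ) : Epi ((rF h𝔘.1 h𝔛.1 j).map (un 𝔛 h𝔛.1 k 𝔉)) :=
  haveI := epi_un h𝔛 h𝔉 k
  inferInstance

include h𝔉 in
/-- `rF (𝔉_k) ≅ (rF 𝔉)_k`. -/
theorem exists_be (k : ℕ) : ∃ e : (rF h𝔘.1 h𝔛.1 j).obj (L 𝔛 h𝔛.1 k 𝔉) ≅ L 𝔘 h𝔘.1 k ((rF h𝔘.1 h𝔛.1 j).obj 𝔉),
    (rF h𝔘.1 h𝔛.1 j).map (un 𝔛 h𝔛.1 k 𝔉) ≫ e.hom = un 𝔘 h𝔘.1 k ((rF h𝔘.1 h𝔛.1 j).obj 𝔉) := by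
  have h1 := epi_rF_un h𝔘 h𝔛 j h𝔉 k
  have h2 := epi_un h𝔘 (isCohF_rF h𝔘.1 h𝔛.1 j h𝔉) k
  refine exists_iso_of_epi _ _ (affs h𝔘.1) (affs_basis h𝔘.1) fun W hW t => ?_
  obtain ⟨t, rfl⟩ := (tF h𝔘.1 h𝔛.1 j).surjective t
  exact app_un_iff h𝔘 h𝔛 j h𝔉 k hW t

/-- The isomorphism `rF (𝔉_k) ≅ (rF 𝔉)_k`. -/
def be (k : ℕ) : (rF h𝔘.1 h𝔛.1 j).obj (L 𝔛 h𝔛.1 k 𝔉) ≅ L 𝔘 h𝔘.1 k ((rF h𝔘.1 h𝔛.1 j).obj 𝔉) :=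
  (exists_be h𝔘 h𝔛 j h𝔉 k).choose

theorem un_be (k : ℕ) : (rF h𝔘.1 h𝔛.1 j).map (un 𝔛 h𝔛.1 k 𝔉) ≫ (be h𝔘 h𝔛 j h𝔉 k).hom =
    un 𝔘 h𝔘.1 k ((rF h𝔘.1 h𝔛.1 j).obj 𝔉) := (exists_be h𝔘 h𝔛 j h𝔉 k).choose_spec

/-- Compatibility with the transition maps. -/
theorem be_trans (k : ℕ) : (rF h𝔘.1 h𝔛.1 j).map (levelTrans 𝔛 h𝔛.1 𝔉 k) ≫ (be h𝔘 h𝔛 j h𝔉 k).hom =
    (be h𝔘 h𝔛 j h𝔉 (k + 1)).hom ≫ levelTrans 𝔘 h𝔘.1 ((rF h𝔘.1 h𝔛.1 j).obj 𝔉) k := by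
  have h1 := epi_rF_un h𝔘 h𝔛 j h𝔉 (k + 1)
  rw [← cancel_epi ((rF h𝔘.1 h𝔛.1 j).map (un 𝔛 h𝔛.1 (k + 1) 𝔉)), ← Category.assoc, ← Category.assoc, un_be,
    ← Functor.map_comp, unit_levelTrans, unit_levelTrans, un_be]

end K178.OpenF
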