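import Groth.Agent.FSch.K178.RpushLim

/-!
# `R^q f_* 𝔉` is coherent and `R^q f_* 𝔉_k` is Mittag-Leffler, for `f` proper
-/

set_option autoImplicit false
set_option linter.style.haveILetI false

universe u

open CategoryTheory CategoryTheory.Limits CategoryTheory.Abelian Opposite TopologicalSpace Topology AlgebraicGeometry

noncomputable section

namespace K178.Trans

open FSch K29.Fml K288.FTower K178.TowerAlg K181.Good K181.Formal K181.BC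
open K29.RSec (O resO Mod app app_comp)

variable {𝔛 𝔜 : FSch.Sys.{u}} (h𝔛 : 𝔛.IsLocNoethFormal) (h𝔜 : 𝔜.IsLocNoethFormal) {f : 𝔛 ⟶ 𝔜} {V : (𝔜.X 0).Opens}
  {𝔉 : ModF 𝔛 h𝔛.1} (h𝔉 : IsCohF 𝔛 h𝔛.1 𝔉) (hf : IsProperHom f) (hV : IsAffineOpen V) (q : ℕ)
  [HasInjectiveResolutions (ModF 𝔛 h𝔛.1)] {r : ℕ} {a : Fin r → O (𝔜.Osh h𝔜.1) V}
  (ha : Ideal.span (Set.range a) = II h𝔜.1 V)

/-- `Γ(V, R^q f_* 𝔉)` is the limit of the tower. -/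
theorem isLim_sysV : IsLim (sysV h𝔛 h𝔜 h𝔉 hf hV q ha) (fun k => app ((RpushF f h𝔛.1 h𝔜.1 q).map (un h𝔛 𝔉 k)) V) where
  comp k l := by
    refine (sysV_t h𝔛 h𝔜 h𝔉 hf hV q ha k _).trans ?_
    have h1 : (RpushF f h𝔛.1 h𝔜.1 q).map (un h𝔛 𝔉 (k + 1)) ≫ (RpushF f h𝔛.1 h𝔜.1 q).map (lt h𝔛 𝔉 k) =
        (RpushF f h𝔛.1 h𝔜.1 q).map (un h𝔛 𝔉 k) := by
      rw [← Functor.map_comp, un_lt]
    exact congrArg (fun φ => app φ V l) h1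
  ext l hl := sec_ext h𝔛 h𝔜 h𝔉 hf q V l hl
  lift m hm := sec_lift h𝔛 h𝔜 h𝔉 hf q V m fun k => (sysV_t h𝔛 h𝔜 h𝔉 hf hV q ha k _).symm.trans (hm k)

include h𝔉 hf hV in
theorem cartF_obj : CartF (fcov h𝔜) ((RpushF f h𝔛.1 h𝔜.1 q).obj 𝔉) V := by
  obtain ⟨r, a, ha⟩ := exists_gens h𝔜 hV
  have hVa : IsAffineOpen (𝔜.lvU h𝔜.1 0 V) := aff h𝔜 ((mem_fcov h𝔜).2 hV)
  have h1 : IsNoetherianRing (O (𝔜.Osh h𝔜.1) V) := K29.Fml.isNoetherianRing_O h𝔜 hVa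
  have h2 : IsAdicComplete (II h𝔜.1 V) (O (𝔜.Osh h𝔜.1) V) := isAdicComplete_II h𝔜 hVa
  obtain ⟨c, hc⟩ := exists_uml h𝔛 h𝔜 h𝔉 hf hV q ha
  obtain ⟨k₀, hk⟩ := exists_step h𝔛 h𝔜 h𝔉 hf hV q ha
  have hl := isLim_sysV h𝔛 h𝔜 h𝔉 hf hV q ha
  have hker := fun n => hl.ker_eq hk n
  have hcart : ∀ k, CartF (fcov h𝔜) ((RpushF f h𝔛.1 h𝔜.1 q).obj (FF h𝔛 𝔉 k)) V := fun k =>
    K178.LevPush.cartF_Rpush h𝔛.1 h𝔜 hf k q (isCoh_lv h𝔛 𝔉 h𝔉 k) hV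
  have hfin : Module.Finite (O (𝔜.Osh h𝔜.1) V) (K29.RSec.Sec ((RpushF f h𝔛.1 h𝔜.1 q).obj 𝔉) V) := by
    refine IsLim.finite (J := II h𝔜.1 V) hl (k₀ := k₀) (fun n => ?_) fun k => (hcart k).2
    rw [← ha]
    exact hker n
  exact K288.CartLim.cartF_of_lim h𝔜 hV (fun k => (RpushF f h𝔛.1 h𝔜.1 q).map (lt h𝔛 𝔉 k))
    (fun k => (RpushF f h𝔛.1 h𝔜.1 q).map (un h𝔛 𝔉 k)) (fun k => by rw [← Functor.map_comp, un_lt]) ha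
    (sysV h𝔛 h𝔜 h𝔉 hf hV q ha) (sysV_t h𝔛 h𝔜 h𝔉 hf hV q ha) hl hc (k₀ := k₀)
    (fun n => (hker n).le.trans (Submodule.smul_mono le_rfl le_top)) hfin
    (fun W x hx => sec_ext h𝔛 h𝔜 h𝔉 hf q W x hx) fun k => (hcart k).1

include h𝔉 hf in
/-- `R^q f_* 𝔉` is coherent. -/
theorem isCohF_obj : IsCohF 𝔜 h𝔜.1 ((RpushF f h𝔛.1 h𝔜.1 q).obj 𝔉) :=
  (isCohF_iff h𝔜).2 fun x => by
    obtain ⟨U, hU, hxU, -⟩ := (fcov h𝔜).exists_mem (show x ∈ (⊤ : Opens (𝔜.X 0)) from trivial)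
    exact ⟨U, hxU, cartF_obj h𝔛 h𝔜 h𝔉 hf ((mem_fcov h𝔜).1 hU) q⟩

/-- The tower `R^q f_* 𝔉_k`. -/
abbrev tower (𝔉 : ModF 𝔛 h𝔛.1) (f : 𝔛 ⟶ 𝔜) : ℕᵒᵖ ⥤ ModF 𝔜 h𝔜.1 :=
  Functor.ofOpSequence (X := fun k => (RpushF f h𝔛.1 h𝔜.1 q).obj (FF h𝔛 𝔉 k))
    (fun k => (RpushF f h𝔛.1 h𝔜.1 q).map (lt h𝔛 𝔉 k))

theorem tr_eq_t {i j : ℕ} (h : i ≤ j) (m : K29.RSec.Sec ((tower h𝔛 h𝔜 q 𝔉 f).obj (op j)) V) :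
    app (ARSys.tr (tower h𝔛 h𝔜 q 𝔉 f) h) V m = (sysV h𝔛 h𝔜 h𝔉 hf hV q ha).t h m := by
  induction j, h using Nat.le_induction with
  | base =>
    refine Eq.trans ?_ ((sysV h𝔛 h𝔜 h𝔉 hf hV q ha).t_self i m).symm
    have h1 : ARSys.tr (tower h𝔛 h𝔜 q 𝔉 f) (le_refl i) = 𝟙 _ := (tower h𝔛 h𝔜 q 𝔉 f).map_id _
    rw [h1]
    rfl
  | succ j hj ih =>
    have h2 : app (ARSys.tr (tower h𝔛 h𝔜 q 𝔉 f) (hj.trans (Nat.le_succ j))) V m =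
        app (ARSys.tr (tower h𝔛 h𝔜 q 𝔉 f) hj) V (app (ARSys.tr (tower h𝔛 h𝔜 q 𝔉 f) (Nat.le_succ j)) V m) :=
      (K288.MLSheaf.tr_tr hj (Nat.le_succ j) V m).symm
    refine h2.trans ?_
    have h3 : ARSys.tr (tower h𝔛 h𝔜 q 𝔉 f) (Nat.le_succ j) = (RpushF f h𝔛.1 h𝔜.1 q).map (lt h𝔛 𝔉 j) :=
      Functor.ofOpSequence_map_homOfLE_succ _ j
    rw [h3, ih]
    refine Eq.trans ?_ ((sysV h𝔛 h𝔜 h𝔉 hf hV q ha).t_t hj (Nat.le_succ j) m)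
    exact congrArg ((sysV h𝔛 h𝔜 h𝔉 hf hV q ha).t hj) (sysV_t h𝔛 h𝔜 h𝔉 hf hV q ha j m).symm

include h𝔉 hf in
/-- The tower `R^q f_* 𝔉_k` satisfies Mittag-Leffler. -/
theorem isML [CompactSpace (𝔜.X 0)] : ARSys.IsML (tower h𝔛 h𝔜 q 𝔉 f) := by
  refine K288.MLSheaf.isML (𝔅 := fcov h𝔜) _ (fun k V hV => ?_) fun x => ?_
  · exact (K178.LevPush.cartF_Rpush h𝔛.1 h𝔜 hf k q (isCoh_lv h𝔛 𝔉 h𝔉 k) ((mem_fcov h𝔜).1 hV)).1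
  · obtain ⟨V, hV', hxV, -⟩ := (fcov h𝔜).exists_mem (show x ∈ (⊤ : Opens (𝔜.X 0)) from trivial)
    have hV : IsAffineOpen V := (mem_fcov h𝔜).1 hV'
    obtain ⟨r, a, ha⟩ := exists_gens h𝔜 hV
    obtain ⟨c, hc⟩ := exists_uml h𝔛 h𝔜 h𝔉 hf hV q ha
    refine ⟨V, hV', hxV, c, fun i j h m => ?_⟩
    obtain ⟨m', hm'⟩ := hc i j h m
    refine ⟨m', ?_⟩
    rw [tr_eq_t h𝔛 h𝔜 h𝔉 hf hV q ha, tr_eq_t h𝔛 h𝔜 h𝔉 hf hV q ha]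
    exact hm'

end K178.Trans
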