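import Groth.Agent.FormalB.GrAlg
import Groth.Agent.Ega1.LimitSystem
import Mathlib.RingTheory.Flat.Stability
import Mathlib.RingTheory.IsTensorProduct

/-!
# Algebra of the Mittag-Leffler and finiteness theorem for towers (EGA 0_III 13.7.7)

A tower `(M k)_k` of modules over a ring `A` (think `M k = H^n(F / J^(k+1) F)`), with transition maps `t` and
operators `x e : M k → M (k+1)` lifting the multiplication by generators `a e` of the ideal `J`
(`Sys`, constructor `Sys.ofSteps`).

* `Sys.uml_of_gen`: if the obstructions `δ k : M k → N k` to lifting to `M (k+1)` have eventually generated range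
  (`N k = H^{n+1}(gr^{k+1})`), then a uniform Mittag-Leffler condition `UML c` holds (`exists_uml`: the case of
  `N` finite over the operators).
* `Sys.exists_family`: under `UML c`, elements of the image of `M (i+c) → M i` lift to the limit.
* `Sys.exists_step`, `Sys.Step.good`: if `ker (M (k+1) → M k)` is the image of a graded module `G` (`H^n(gr^{k+1})`)
  all whose stable submodules are eventually generated, then the filtration `K k = ker (lim → M k)` is `J`-good.
* `Lim`: limits `L`, `π k : L → M k`; `Lim.exists_pow`, `Lim.finite`.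
* `Lim.isBaseChange`: flat base change of the limit.
-/

set_option autoImplicit false
set_option maxHeartbeats 400000

open Groth.Agent

namespace K178.TowerAlg

variable {A : Type*} [CommRing A] {ι : Type*}

/-- A tower of modules with transition maps and operators lifting the multiplication by the `a e`. -/
structure Sys (a : ι → A) (M : ℕ → Type*) [∀ k, AddCommGroup (M k)] [∀ k, Module A (M k)] where
  /-- transition maps -/
  t : ∀ {i j : ℕ}, i ≤ j → M j →ₗ[A] M i
  /-- operators -/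
  x : ι → ∀ k, M k →ₗ[A] M (k + 1)
  t_self : ∀ (k : ℕ) (m : M k), t le_rfl m = m
  t_t : ∀ {i j k : ℕ} (h : i ≤ j) (h' : j ≤ k) (m : M k), t h (t h' m) = t (h.trans h') m
  t_x : ∀ (e : ι) (k : ℕ) (m : M k), t (Nat.le_succ k) (x e k m) = a e • m
  x_t : ∀ (e : ι) (k : ℕ) (m : M (k + 1)), x e k (t (Nat.le_succ k) m) = a e • m
  zero : ∀ (e : ι) (m : M 0), a e • m = 0

namespace Sys

variable {a : ι → A} {M : ℕ → Type*} [∀ k, AddCommGroup (M k)] [∀ k, Module A (M k)]

section ofSteps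

variable (t : ∀ k, M (k + 1) →ₗ[A] M k)

/-- transition maps from the one-step transition maps -/
def tr {i j : ℕ} (h : i ≤ j) : M j →ₗ[A] M i :=
  Nat.leRec (motive := fun j _ => M j →ₗ[A] M i) LinearMap.id (fun k _ f => f ∘ₗ t k) h

theorem tr_self (i : ℕ) : tr t (le_refl i) = LinearMap.id := Nat.leRec_self _ _

theorem tr_succ {i j : ℕ} (h : i ≤ j) : tr t (h.trans (Nat.le_succ j)) = tr t h ∘ₗ t j := Nat.leRec_succ _ _ _

theorem tr_step (k : ℕ) : tr t (Nat.le_succ k) = t k := by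
  have := tr_succ t (le_refl k)
  rw [tr_self, LinearMap.id_comp] at this
  exact this

theorem tr_tr {i j k : ℕ} (h : i ≤ j) (h' : j ≤ k) : tr t h ∘ₗ tr t h' = tr t (h.trans h') := by
  induction k, h' using Nat.le_induction with
  | base => rw [tr_self, LinearMap.comp_id]
  | succ k h' ih =>
    rw [tr_succ t h', ← LinearMap.comp_assoc, ih]
    exact (tr_succ t (h.trans h')).symm

/-- A tower from its one-step transition maps. -/
def ofSteps (t : ∀ k, M (k + 1) →ₗ[A] M k) (x : ι → ∀ k, M k →ₗ[A] M (k + 1))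
    (t_x : ∀ (e : ι) (k : ℕ) (m : M k), t k (x e k m) = a e • m)
    (x_t : ∀ (e : ι) (k : ℕ) (m : M (k + 1)), x e k (t k m) = a e • m)
    (zero : ∀ (e : ι) (m : M 0), a e • m = 0) : Sys a M where
  t := fun h => tr t h
  x := x
  t_self := fun k m => by rw [tr_self, LinearMap.id_apply]
  t_t := fun h h' m => by rw [← tr_tr t h h', LinearMap.comp_apply]
  t_x := fun e k m => by rw [tr_step]; exact t_x e k m
  x_t := fun e k m => by rw [tr_step]; exact x_t e k m
  zero := zero

theorem ofSteps_t (t : ∀ k, M (k + 1) →ₗ[A] M k) (x : ι → ∀ k, M k →ₗ[A] M (k + 1))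
    (t_x : ∀ (e : ι) (k : ℕ) (m : M k), t k (x e k m) = a e • m)
    (x_t : ∀ (e : ι) (k : ℕ) (m : M (k + 1)), x e k (t k m) = a e • m)
    (zero : ∀ (e : ι) (m : M 0), a e • m = 0) (k : ℕ) :
    (ofSteps t x t_x x_t zero).t (Nat.le_succ k) = t k := tr_step t k

end ofSteps

variable (S : Sys a M)

theorem t_x' (e : ι) {i j : ℕ} (h : i ≤ j) (m : M j) :
    S.t (Nat.succ_le_succ h) (S.x e j m) = S.x e i (S.t h m) := by
  rcases h.eq_or_lt with rfl | h'
  · rw [S.t_self, S.t_self]
  · have h2 : i + 1 ≤ j := h'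
    rw [← S.t_t h2 (Nat.le_succ j), S.t_x, map_smul, ← S.x_t, S.t_t]

theorem t_x_smul (e : ι) {i j : ℕ} (h : i ≤ j) (m : M j) :
    S.t (h.trans (Nat.le_succ j)) (S.x e j m) = a e • S.t h m := by
  rw [← S.t_t h (Nat.le_succ j), S.t_x, map_smul]

include S in
theorem smul_eq_zero (k : ℕ) (b : A) (hb : b ∈ Ideal.span (Set.range a) ^ (k + 1)) (m : M k) : b • m = 0 := by
  have h1 : Ideal.span (Set.range a) ≤ LinearMap.ker (LinearMap.toSpanSingleton A (M 0 →ₗ[A] M 0) LinearMap.id) := by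
    rw [Ideal.span_le]
    rintro _ ⟨e, rfl⟩
    change a e • LinearMap.id = 0
    ext m
    exact S.zero e m
  induction k generalizing b with
  | zero =>
    rw [zero_add, pow_one] at hb
    exact congr($(h1 hb) m)
  | succ k ih =>
    rw [pow_succ] at hb
    refine Submodule.mul_induction_on hb (fun c hc d hd => ?_) (fun u v hu hv => by rw [add_smul, hu, hv, add_zero])
    have h2 : Ideal.span (Set.range a) ≤ LinearMap.ker
        (LinearMap.toSpanSingleton A (M (k + 1)) (c • m)) := by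
      rw [Ideal.span_le]
      rintro _ ⟨e, rfl⟩
      change a e • c • m = 0
      rw [← S.x_t, map_smul, ih c hc, map_zero]
    have := h2 hd
    change d • c • m = 0 at this
    rw [mul_comm, mul_smul]
    exact this

/-- Uniform Mittag-Leffler condition: every element of `M j` can be corrected, without changing its image in `M i`,
`i + c ≤ j`, so that it lifts to `M (j+1)`. -/
def UML (c : ℕ) : Prop :=
  ∀ (i j : ℕ) (h : i + c ≤ j) (m : M j), ∃ m' : M (j + 1),
    S.t (show i ≤ j + 1 by omega) m' = S.t (show i ≤ j by omega) m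

variable {S} in
theorem UML.mono {c c' : ℕ} (h : S.UML c) (hc : c ≤ c') : S.UML c' := fun i j hij m => h i j (by omega) m

theorem uml_of_gen {N : ℕ → Type*} [∀ k, AddCommGroup (N k)] [∀ k, Module A (N k)]
    (xN : ι → ∀ k, N k →ₗ[A] N (k + 1))
    (δ : ∀ k, M k →ₗ[A] N k) (hδx : ∀ e k (m : M k), δ (k + 1) (S.x e k m) = xN e k (δ k m))
    (hδ : ∀ k (m : M k), δ k m = 0 → ∃ m' : M (k + 1), S.t (Nat.le_succ k) m' = m) (n₀ : ℕ)
    (hgen : ∀ k, n₀ ≤ k → LinearMap.range (δ (k + 1)) ≤ ⨆ e, (LinearMap.range (δ k)).map (xN e k)) :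
    S.UML (n₀ + 1) := by
  let W : ∀ j, Submodule A (N j) := fun j =>
    if j ≤ n₀ then LinearMap.range (δ j) else (LinearMap.ker (S.t (Nat.sub_le j (n₀ + 1)))).map (δ j)
  have hWdef : ∀ j, n₀ < j → W j = (LinearMap.ker (S.t (Nat.sub_le j (n₀ + 1)))).map (δ j) := fun j hj =>
    if_neg (by omega)
  have hW : ∀ j, n₀ ≤ j → ∀ e, (W j).map (xN e j) ≤ W (j + 1) := by
    intro j hj e
    rw [hWdef (j + 1) (by omega)]
    rcases hj.eq_or_lt with rfl | hj'
    · have h1 : W n₀ = LinearMap.range (δ n₀) := if_pos le_rfl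
      rw [h1]
      rintro _ ⟨_, ⟨m, rfl⟩, rfl⟩
      refine ⟨S.x e n₀ m, ?_, hδx e n₀ m⟩
      have key : ∀ (i : ℕ) (hi : i = 0) (h : i ≤ n₀ + 1), S.t h (S.x e n₀ m) = 0 := by
        rintro i rfl h
        rw [S.t_x_smul e (Nat.zero_le n₀), S.zero]
      exact key _ (by omega) _
    · rw [hWdef j hj']
      rintro _ ⟨_, ⟨m, hm, rfl⟩, rfl⟩
      refine ⟨S.x e j m, ?_, hδx e j m⟩
      have hm' : S.t (Nat.sub_le j (n₀ + 1)) m = 0 := hm
      have key : ∀ (i' i : ℕ) (hi : i' = i + 1) (h : i ≤ j) (h' : i' ≤ j + 1), S.t h m = 0 →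
          S.t h' (S.x e j m) = 0 := by
        rintro _ i rfl h h' h0
        rw [S.t_x' e h, h0, map_zero]
      exact key _ _ (by omega) _ _ hm'
  have hW1 : ∀ j, LinearMap.range (δ j) ≤ W j := by
    intro j
    rcases Nat.lt_or_ge n₀ j with hj | hj
    · induction j, hj using Nat.le_induction with
      | base =>
        refine (hgen n₀ le_rfl).trans (iSup_le fun e => ?_)
        refine le_trans (Submodule.map_mono ?_) (hW n₀ le_rfl e)
        exact (if_pos le_rfl : W n₀ = _).ge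
      | succ j hj ih =>
        refine (hgen j (by omega)).trans (iSup_le fun e => ?_)
        exact le_trans (Submodule.map_mono ih) (hW j (by omega) e)
    · exact (if_pos hj : W j = _).ge
  intro i j h m
  have h0 := hW1 j ⟨m, rfl⟩
  rw [hWdef j (by omega)] at h0
  obtain ⟨m₀, h1, h2⟩ := h0
  replace h1 : S.t (Nat.sub_le j (n₀ + 1)) m₀ = 0 := h1
  obtain ⟨m', hm'⟩ := hδ j (m - m₀) (by rw [map_sub, h2, sub_self])
  refine ⟨m', ?_⟩
  have h3 : i ≤ j - (n₀ + 1) := by omega
  rw [← S.t_t (show i ≤ j by omega) (Nat.le_succ j), hm', map_sub, ← S.t_t h3 (Nat.sub_le j (n₀ + 1)) m₀, h1, map_zero,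
    sub_zero]

theorem exists_uml [IsNoetherianRing A] [Finite ι] {N : ℕ → Type*} [∀ k, AddCommGroup (N k)] [∀ k, Module A (N k)]
    (xN : ι → ∀ k, N k →ₗ[A] N (k + 1))
    (hcomm : ∀ i j n m, xN i (n + 1) (xN j n m) = xN j (n + 1) (xN i n m))
    (hfin : ∀ k, Module.Finite A (N k))
    (hgen : ∃ n₀ : ℕ, ∀ n, n₀ ≤ n → (⊤ : Submodule A (N (n + 1))) ≤ ⨆ i, LinearMap.range (xN i n))
    (δ : ∀ k, M k →ₗ[A] N k) (hδx : ∀ e k (m : M k), δ (k + 1) (S.x e k m) = xN e k (δ k m))
    (hδ : ∀ k (m : M k), δ k m = 0 → ∃ m' : M (k + 1), S.t (Nat.le_succ k) m' = m) :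
    ∃ c, S.UML c := by
  obtain ⟨n₀, hc⟩ := FormalB.GrAlg.exists_generated_submodule xN hcomm hfin hgen
    (fun k => LinearMap.range (δ k)) (by
      rintro e k _ ⟨_, ⟨m, rfl⟩, rfl⟩
      exact ⟨S.x e k m, hδx e k m⟩)
  exact ⟨_, S.uml_of_gen xN δ hδx hδ n₀ hc⟩

/-- The limit of the tower. -/
def lim : Submodule A (∀ k, M k) where
  carrier := {l | ∀ (i j : ℕ) (h : i ≤ j), S.t h (l j) = l i}
  zero_mem' := fun i j h => by rw [Pi.zero_apply, map_zero, Pi.zero_apply]
  add_mem' := fun {_ _} hl hl' i j h => by rw [Pi.add_apply, map_add, hl i j h, hl' i j h, Pi.add_apply]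
  smul_mem' := fun b _ hl i j h => by rw [Pi.smul_apply, map_smul, hl i j h, Pi.smul_apply]

theorem mem_lim {l : ∀ k, M k} : l ∈ S.lim ↔ ∀ (i j : ℕ) (h : i ≤ j), S.t h (l j) = l i := Iff.rfl

theorem mem_lim_iff {l : ∀ k, M k} : l ∈ S.lim ↔ ∀ k, S.t (Nat.le_succ k) (l (k + 1)) = l k := by
  refine ⟨fun h k => h _ _ _, fun h i j hij => ?_⟩
  induction j, hij using Nat.le_induction with
  | base => exact S.t_self i _
  | succ j hij ih => rw [← S.t_t hij (Nat.le_succ j), h j, ih]

/-- The kernel of `lim → M k`. -/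
def K (k : ℕ) : Submodule A (∀ k, M k) := S.lim ⊓ LinearMap.ker (LinearMap.proj (φ := M) k)

theorem mem_K {k : ℕ} {l : ∀ k, M k} : l ∈ S.K k ↔ l ∈ S.lim ∧ l k = 0 := Iff.rfl

theorem K_le_lim (k : ℕ) : S.K k ≤ S.lim := inf_le_left

theorem K_anti {i j : ℕ} (h : i ≤ j) : S.K j ≤ S.K i := by
  rintro l ⟨h1, h2⟩
  refine ⟨h1, ?_⟩
  change l i = 0
  rw [← h1 i j h, show l j = 0 from h2, map_zero]

theorem exists_seq {c : ℕ} (hc : S.UML c) (i : ℕ) (m : M (i + c)) :
    ∃ s : ∀ n, M (i + c + n), s 0 = m ∧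
      ∀ n, S.t (show i + n ≤ i + c + (n + 1) by omega) (s (n + 1)) = S.t (show i + n ≤ i + c + n by omega) (s n) := by
  choose g hg using fun n => hc (i + n) (i + c + n) (by omega)
  let s : ∀ n, M (i + c + n) := fun n => Nat.rec m (fun n y => g n y) n
  exact ⟨s, rfl, fun n => hg n (s n)⟩

/-- Under the uniform Mittag-Leffler condition, an element which lifts `c` steps lifts to the limit. -/
theorem exists_family {c : ℕ} (hc : S.UML c) (i : ℕ) (m : M (i + c)) :
    ∃ l ∈ S.lim, l i = S.t (Nat.le_add_right i c) m := by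
  obtain ⟨s, hs0, hs⟩ := S.exists_seq hc i m
  have h1 : ∀ (k n : ℕ) (h : k ≤ i + n), S.t (show k ≤ i + c + (n + 1) by omega) (s (n + 1)) =
      S.t (show k ≤ i + c + n by omega) (s n) := by
    intro k n h
    rw [← S.t_t h (show i + n ≤ i + c + (n + 1) by omega), hs n, S.t_t]
  have h2 : ∀ (k n n' : ℕ) (h : k ≤ i + n) (h' : n ≤ n'), S.t (show k ≤ i + c + n' by omega) (s n') =
      S.t (show k ≤ i + c + n by omega) (s n) := by
    intro k n n' h h'
    induction n', h' using Nat.le_induction with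
    | base => rfl
    | succ n' hn ih => rw [h1 k n' (by omega), ih]
  refine ⟨fun k => S.t (show k ≤ i + c + k by omega) (s k), ?_, ?_⟩
  · rw [mem_lim_iff]
    intro k
    rw [S.t_t, h2 k k (k + 1) (by omega) (Nat.le_succ k)]
  · exact (h2 i 0 i (by omega) (Nat.zero_le i)).trans (by rw [hs0])

theorem x_lim {l : ∀ k, M k} (hl : l ∈ S.lim) (e : ι) (k : ℕ) : S.x e k (l k) = a e • l (k + 1) := by
  rw [← hl k (k + 1) (Nat.le_succ k), S.x_t]

theorem smul_K_le (k : ℕ) : Ideal.span (Set.range a) • S.K k ≤ S.K (k + 1) := by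
  rw [Submodule.smul_le]
  intro b hb l hl
  refine ⟨Submodule.smul_mem _ _ hl.1, ?_⟩
  change b • l (k + 1) = 0
  have h1 : Ideal.span (Set.range a) ≤ LinearMap.ker (LinearMap.toSpanSingleton A (M (k + 1)) (l (k + 1))) := by
    rw [Ideal.span_le]
    rintro _ ⟨e, rfl⟩
    change a e • l (k + 1) = 0
    rw [← S.x_lim hl.1, show l k = 0 from hl.2, map_zero]
  exact h1 hb

section good

variable [Fintype ι]

/-- One step of the good filtration. -/
def Step (k₀ : ℕ) : Prop := ∀ k, k₀ ≤ k → ∀ l ∈ S.K (k + 1), ∃ l' : ι → ∀ k, M k, (∀ e, l' e ∈ S.K k) ∧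
      l - ∑ e, a e • l' e ∈ S.K (k + 2)

variable {G : ℕ → Type*} [∀ k, AddCommGroup (G k)] [∀ k, Module A (G k)]

/-- The filtration of the limit by the kernels of the projections is `J`-good, one step. -/
theorem exists_step (xG : ι → ∀ k, G k →ₗ[A] G (k + 1))
    (hgen : ∀ V : ∀ k, Submodule A (G k), (∀ e k, (V k).map (xG e k) ≤ V (k + 1)) →
      ∃ n₀ : ℕ, ∀ n, n₀ ≤ n → V (n + 1) ≤ ⨆ e, (V n).map (xG e n))
    (γ : ∀ k, G k →ₗ[A] M (k + 1)) (hγx : ∀ e k (g : G k), γ (k + 1) (xG e k g) = S.x e (k + 1) (γ k g))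
    (hγ : ∀ k (m : M (k + 1)), S.t (Nat.le_succ k) m = 0 → ∃ g : G k, γ k g = m) :
    ∃ k₀, S.Step k₀ := by
  let V : ∀ k, Submodule A (G k) := fun k => ((S.K k).map (LinearMap.proj (φ := M) (k + 1))).comap (γ k)
  obtain ⟨k₀, hk₀⟩ := hgen V (by
    rintro e k _ ⟨g, ⟨l, ⟨hl1, hl2⟩, hl3⟩, rfl⟩
    refine ⟨a e • l, ⟨Submodule.smul_mem _ _ hl1, ?_⟩, ?_⟩
    · change a e • l (k + 1) = 0
      rw [← S.x_lim hl1, show l k = 0 from hl2, map_zero]
    · rw [hγx, ← hl3]
      exact (S.x_lim hl1 e (k + 1)).symm)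
  refine ⟨k₀, fun k hk l hl => ?_⟩
  obtain ⟨g, hg⟩ := hγ (k + 1) (l (k + 2)) (by rw [hl.1 _ _ _]; exact hl.2)
  have h1 : g ∈ ⨆ e, (V k).map (xG e k) := hk₀ k hk ⟨l, hl, hg.symm⟩
  rw [Submodule.mem_iSup_iff_exists_finsupp] at h1
  obtain ⟨f, hf, hfg⟩ := h1
  rw [Finsupp.sum_fintype _ _ (fun _ => rfl)] at hfg
  choose g' hg' hg'f using fun e => hf e
  choose l' hl' hl'g using fun e => hg' e
  refine ⟨l', hl', Submodule.sub_mem _ hl.1 (Submodule.sum_mem _ fun e _ => Submodule.smul_mem _ _ (hl' e).1), ?_⟩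
  change l (k + 2) - (∑ e, a e • l' e) (k + 2) = 0
  rw [← hg, ← hfg, map_sum, Finset.sum_apply, sub_eq_zero]
  refine Finset.sum_congr rfl fun e _ => ?_
  rw [← hg'f e, hγx, ← hl'g e]
  exact S.x_lim (hl' e).1 e (k + 1)

variable {S}

/-- `K (k+1) = ∑ a e K k` for large `k`. -/
theorem Step.good {k₀ : ℕ} (h : S.Step k₀) (k : ℕ) (hk : k₀ ≤ k) (l : ∀ k, M k) (hl : l ∈ S.K (k + 1)) :
    ∃ l' : ι → ∀ k, M k, (∀ e, l' e ∈ S.K k) ∧ l = ∑ e, a e • l' e := by
  choose g hg1 hg2 using fun (n : ℕ) (y : S.K (k + n + 1)) => h (k + n) (by omega) y.1 y.2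
  let r : ∀ n, S.K (k + n + 1) := fun n => Nat.rec ⟨l, hl⟩
    (fun n y => ⟨y.1 - ∑ e, a e • g n y e, hg2 n y⟩) n
  have hr0 : (r 0).1 = l := rfl
  have hr : ∀ n, (r (n + 1)).1 = (r n).1 - ∑ e, a e • g n (r n) e := fun n => rfl
  let u : ι → ℕ → ∀ k, M k := fun e n => g n (r n) e
  have hu : ∀ e n, u e n ∈ S.K (k + n) := fun e n => hg1 n (r n) e
  have hr' : ∀ n, (r n).1 = l - ∑ e, a e • ∑ s ∈ Finset.range n, u e s := by
    intro n
    induction n with
    | zero => simp [hr0]
    | succ n ih =>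
      rw [hr n, ih, sub_sub, ← Finset.sum_add_distrib]
      congr 1
      refine Finset.sum_congr rfl fun e _ => ?_
      rw [Finset.sum_range_succ, smul_add]
  have hu0 : ∀ e n j, j ≤ k + n → u e n j = 0 := fun e n j hj => (S.K_anti hj (hu e n)).2
  have hsum : ∀ e j n, j + 1 ≤ n → (∑ s ∈ Finset.range n, u e s) j = ∑ s ∈ Finset.range (j + 1), u e s j := by
    intro e j n hn
    rw [Finset.sum_apply]
    refine (Finset.sum_subset (Finset.range_subset_range.2 hn) fun s _ hs => hu0 e s j ?_).symm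
    rw [Finset.mem_range, not_lt] at hs
    omega
  refine ⟨fun e j => ∑ s ∈ Finset.range (j + 1), u e s j, fun e => ⟨?_, ?_⟩, ?_⟩
  · intro i j hij
    change S.t hij (∑ s ∈ Finset.range (j + 1), u e s j) = ∑ s ∈ Finset.range (i + 1), u e s i
    rw [map_sum]
    have h1 : ∀ s, S.t hij (u e s j) = u e s i := fun s => (hu e s).1 i j hij
    rw [Finset.sum_congr rfl fun s _ => h1 s]
    refine (Finset.sum_subset (Finset.range_subset_range.2 (by omega)) fun s _ hs => hu0 e s i ?_).symm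
    rw [Finset.mem_range, not_lt] at hs
    omega
  · change ∑ s ∈ Finset.range (k + 1), u e s k = 0
    exact Finset.sum_eq_zero fun s _ => hu0 e s k (by omega)
  · funext j
    have h1 : (r (j + 1)).1 j = 0 := (S.K_anti (show j ≤ k + (j + 1) + 1 by omega) (r (j + 1)).2).2
    rw [hr' (j + 1)] at h1
    have h2 := sub_eq_zero.1 h1
    rw [h2, Finset.sum_apply, Finset.sum_apply]
    refine Finset.sum_congr rfl fun e _ => ?_
    rw [Pi.smul_apply, Pi.smul_apply, hsum e j (j + 1) le_rfl]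

theorem Step.le_smul {k₀ : ℕ} (h : S.Step k₀) (k : ℕ) (hk : k₀ ≤ k) :
    S.K (k + 1) ≤ Ideal.span (Set.range a) • S.K k := by
  intro l hl
  obtain ⟨l', hl', rfl⟩ := h.good k hk l hl
  exact Submodule.sum_mem _ fun e _ => Submodule.smul_mem_smul (Ideal.subset_span ⟨e, rfl⟩) (hl' e)

theorem Step.eq_pow {k₀ : ℕ} (h : S.Step k₀) (n : ℕ) :
    S.K (k₀ + n) = Ideal.span (Set.range a) ^ n • S.K k₀ := by
  induction n with
  | zero => rw [add_zero, pow_zero, Ideal.one_eq_top, Submodule.top_smul]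
  | succ n ih =>
    refine le_antisymm ((h.le_smul (k₀ + n) (by omega)).trans ?_) (le_trans ?_ (S.smul_K_le (k₀ + n)))
    · rw [ih, pow_succ', mul_smul]
    · rw [ih, pow_succ', mul_smul]

end good

end Sys

/-! ### Limits -/

section Lim

variable {a : ι → A} {M : ℕ → Type*} [∀ k, AddCommGroup (M k)] [∀ k, Module A (M k)] {S : Sys a M}
  {L : Type*} [AddCommGroup L] [Module A L]

/-- `L` with the projections `π k` is the limit of the tower. -/
structure IsLim (S : Sys a M) (π : ∀ k, L →ₗ[A] M k) : Prop where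
  comp : ∀ k (l : L), S.t (Nat.le_succ k) (π (k + 1) l) = π k l
  ext : ∀ l : L, (∀ k, π k l = 0) → l = 0
  lift : ∀ m : ∀ k, M k, (∀ k, S.t (Nat.le_succ k) (m (k + 1)) = m k) → ∃ l, ∀ k, π k l = m k

variable {π : ∀ k, L →ₗ[A] M k} (hπ : IsLim S π)

include hπ in
theorem IsLim.comp' {i j : ℕ} (h : i ≤ j) (l : L) : S.t h (π j l) = π i l := by
  have h1 : (fun k => π k l) ∈ S.lim := by
    rw [Sys.mem_lim_iff]
    exact fun k => hπ.comp k l
  exact h1 i j h

include hπ in
/-- elements which lift `c` steps come from the limit -/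
theorem IsLim.exists_eq {c : ℕ} (hc : S.UML c) (i : ℕ) (m : M (i + c)) :
    ∃ l, π i l = S.t (Nat.le_add_right i c) m := by
  obtain ⟨l, hl, h⟩ := S.exists_family hc i m
  obtain ⟨l', hl'⟩ := hπ.lift l (S.mem_lim_iff.1 hl)
  exact ⟨l', (hl' i).trans h⟩

include hπ in
theorem IsLim.range_eq {c : ℕ} (hc : S.UML c) {i j : ℕ} (h : i + c ≤ j) :
    LinearMap.range (S.t (show i ≤ j by omega)) = LinearMap.range (π i) := by
  apply le_antisymm
  · rintro _ ⟨m, rfl⟩
    obtain ⟨l, hl⟩ := hπ.exists_eq hc i (S.t h m)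
    exact ⟨l, by rw [hl, S.t_t]⟩
  · rintro _ ⟨l, rfl⟩
    exact ⟨π j l, hπ.comp' _ l⟩

include hπ in
theorem IsLim.ker_anti {i j : ℕ} (h : i ≤ j) : LinearMap.ker (π j) ≤ LinearMap.ker (π i) := by
  intro l hl
  rw [LinearMap.mem_ker] at hl ⊢
  rw [← hπ.comp' h, hl, map_zero]

include hπ in
/-- the kernels of the projections form a good filtration -/
theorem IsLim.ker_eq [Fintype ι] {k₀ : ℕ} (h : S.Step k₀) (n : ℕ) :
    LinearMap.ker (π (k₀ + n)) = Ideal.span (Set.range a) ^ n • LinearMap.ker (π k₀) := by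
  let f : L →ₗ[A] (∀ k, M k) := LinearMap.pi π
  have hf : Function.Injective f := by
    rw [← LinearMap.ker_eq_bot, LinearMap.ker_eq_bot']
    exact fun l hl => hπ.ext l fun k => congrFun hl k
  have hK : ∀ k, (LinearMap.ker (π k)).map f = S.K k := by
    intro k
    apply le_antisymm
    · rintro _ ⟨l, hl, rfl⟩
      exact ⟨S.mem_lim_iff.2 fun k => hπ.comp k l, hl⟩
    · rintro l ⟨hl1, hl2⟩
      obtain ⟨l', hl'⟩ := hπ.lift l (S.mem_lim_iff.1 hl1)
      refine ⟨l', ?_, funext hl'⟩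
      exact (hl' k).trans hl2
  apply Submodule.map_injective_of_injective hf
  rw [hK, Submodule.map_smul'', hK, h.eq_pow n]

include hπ in
/-- The limit is a finite module. -/
theorem IsLim.finite [IsNoetherianRing A] {J : Ideal A} [IsAdicComplete J A] {k₀ : ℕ}
    (hk : ∀ n, LinearMap.ker (π (k₀ + n)) = J ^ n • LinearMap.ker (π k₀))
    (hM : ∀ k, Module.Finite A (M k)) : Module.Finite A L := by
  let N := LinearMap.ker (π k₀)
  have h1 : IsHausdorff J N := by
    refine ⟨fun x hx => ?_⟩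
    apply Subtype.ext
    refine hπ.ext _ fun k => ?_
    have h2 := hx k
    rw [SModEq.zero] at h2
    have h3 : x.1 ∈ J ^ k • N := by
      have h4 : x.1 ∈ (J ^ k • (⊤ : Submodule A N)).map N.subtype := ⟨x, h2, rfl⟩
      rwa [Submodule.map_smul'', Submodule.map_top, Submodule.range_subtype] at h4
    rw [← hk k] at h3
    exact hπ.ker_anti (by omega) h3
  have h2 : Module.Finite A (N ⧸ (J • ⊤ : Submodule A N)) := by
    let g : N →ₗ[A] M (k₀ + 1) := π (k₀ + 1) ∘ₗ N.subtype
    have hg : LinearMap.ker g = J • ⊤ := by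
      apply Submodule.map_injective_of_injective N.subtype_injective
      rw [Submodule.map_smul'', Submodule.map_top, Submodule.range_subtype]
      have h3 := hk 1
      rw [pow_one] at h3
      rw [← h3]
      apply le_antisymm
      · rintro _ ⟨x, hx, rfl⟩
        exact hx
      · intro x hx
        exact ⟨⟨x, hπ.ker_anti (Nat.le_succ k₀) hx⟩, hx, rfl⟩
    have := hM (k₀ + 1)
    have h4 : Module.Finite A (N ⧸ LinearMap.ker g) :=
      Module.Finite.equiv g.quotKerEquivRange.symm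
    exact Module.Finite.equiv (Submodule.quotEquivOfEq _ _ hg)
  have h3 : Module.Finite A N := Ega1.LimitSystem.finite_of_finite_quotient (I := J) h2
  have := hM k₀
  have h4 : Module.Finite A (L ⧸ N) := Module.Finite.equiv (π k₀).quotKerEquivRange.symm
  exact Module.Finite.of_submodule_quotient N

section baseChange

open TensorProduct

variable {B : Type*} [CommRing B] [Algebra A B]

theorem lTensor_subtype_mem (I : Ideal A) (N : Submodule A L) (hN : N ≤ I • ⊤) (z : B ⊗[A] N) :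
    N.subtype.lTensor B z ∈ (I.map (algebraMap A B) • (⊤ : Submodule B (B ⊗[A] L))) := by
  induction z with
  | zero => rw [map_zero]; exact zero_mem _
  | add x y hx hy => rw [map_add]; exact add_mem hx hy
  | tmul b y =>
    rw [LinearMap.lTensor_tmul]
    have h1 : ∀ w ∈ I • (⊤ : Submodule A L), b ⊗ₜ[A] w ∈ (I.map (algebraMap A B) • (⊤ : Submodule B (B ⊗[A] L))) := by
      intro w hw
      refine Submodule.smul_induction_on hw (fun r hr n _ => ?_) (fun u v hu hv => ?_)
      · have : b ⊗ₜ[A] (r • n) = (algebraMap A B r) • (b ⊗ₜ[A] n) := by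
          rw [TensorProduct.tmul_smul, algebraMap_smul]
        rw [this]
        exact Submodule.smul_mem_smul (Ideal.mem_map_of_mem _ hr) trivial
      · rw [TensorProduct.tmul_add]
        exact add_mem hu hv
    exact h1 _ (hN y.2)

theorem mem_of_lTensor_eq_zero [Module.Flat A B] {P : Type*} [AddCommGroup P] [Module A P] (f : L →ₗ[A] P)
    (I : Ideal A) (hf : LinearMap.ker f ≤ I • ⊤) (z : B ⊗[A] L) (hz : f.lTensor B z = 0) :
    z ∈ (I.map (algebraMap A B) • (⊤ : Submodule B (B ⊗[A] L))) := by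
  have h1 : Function.Exact (LinearMap.ker f).subtype f := by
    intro x
    rw [Submodule.coe_subtype, Subtype.range_coe]
    rfl
  have h2 := Module.Flat.lTensor_exact B h1
  obtain ⟨y, rfl⟩ := (h2 z).1 hz
  exact lTensor_subtype_mem I _ hf y

include hπ in
/-- **Flat base change** of the limit of a tower which satisfies the uniform Mittag-Leffler condition and whose
filtration is good. -/
theorem IsLim.isBaseChange [Module.Flat A B] [IsNoetherianRing B] {J : Ideal A}
    [IsAdicComplete (J.map (algebraMap A B)) B] (hJ : ∀ k, ∀ b ∈ J ^ (k + 1), ∀ m : M k, b • m = 0)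
    {c : ℕ} (hc : S.UML c) {k₀ : ℕ}
    (hk : ∀ n, LinearMap.ker (π (k₀ + n)) ≤ J ^ n • ⊤) [Module.Finite A L]
    {M' : ℕ → Type*} [∀ k, AddCommGroup (M' k)] [∀ k, Module A (M' k)] [∀ k, Module B (M' k)]
    [∀ k, IsScalarTower A B (M' k)] (φ : ∀ k, M k →ₗ[A] M' k) (hφ : ∀ k, IsBaseChange B (φ k))
    (t' : ∀ k, M' (k + 1) →ₗ[B] M' k) (ht' : ∀ k m, t' k (φ (k + 1) m) = φ k (S.t (Nat.le_succ k) m))
    {L' : Type*} [AddCommGroup L'] [Module A L'] [Module B L'] [IsScalarTower A B L'] (π' : ∀ k, L' →ₗ[B] M' k)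
    (hπt : ∀ k l, t' k (π' (k + 1) l) = π' k l) (hπ' : ∀ l, (∀ k, π' k l = 0) → l = 0)
    (ψ : L →ₗ[A] L') (hψ : ∀ k l, π' k (ψ l) = φ k (π k l)) : IsBaseChange B ψ := by
  let I := J.map (algebraMap A B)
  let Ψ : B ⊗[A] L →ₗ[B] L' := ψ.liftBaseChange B
  have hΨ : ∀ (b : B) (l : L), Ψ (b ⊗ₜ l) = b • ψ l := fun b l => LinearMap.liftBaseChange_tmul _ _ _ _
  -- the map at level `k`
  have hlev : ∀ k z, π' k (Ψ z) = (hφ k).equiv ((π k).lTensor B z) := by
    intro k z
    induction z with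
    | zero => rw [map_zero, map_zero, map_zero, map_zero]
    | add x y hx hy => rw [map_add, map_add, hx, hy, map_add, map_add]
    | tmul b l => rw [hΨ, map_smul, hψ, LinearMap.lTensor_tmul, IsBaseChange.equiv_tmul]
  have hmem : ∀ n z, π' (k₀ + n) (Ψ z) = 0 → z ∈ (I ^ n • (⊤ : Submodule B (B ⊗[A] L))) := by
    intro n z hz
    rw [hlev, LinearEquiv.map_eq_zero_iff] at hz
    have := mem_of_lTensor_eq_zero (π (k₀ + n)) (J ^ n) (hk n) z hz
    rwa [Ideal.map_pow] at this
  have hkill : ∀ k z, z ∈ (I ^ (k + 1) • (⊤ : Submodule B (B ⊗[A] L))) → π' k (Ψ z) = 0 := by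
    intro k z hz
    rw [hlev, LinearEquiv.map_eq_zero_iff]
    refine Submodule.smul_induction_on hz (fun r hr n _ => ?_) (fun u v hu hv => ?_)
    · have h1 : ∀ n : B ⊗[A] M k, ∀ r ∈ I ^ (k + 1), r • n = 0 := by
        intro n r hr
        have h2 : (J ^ (k + 1)).map (algebraMap A B) ≤ LinearMap.ker (LinearMap.toSpanSingleton B (B ⊗[A] M k) n) := by
          rw [Ideal.map_le_iff_le_comap]
          intro b hb
          change algebraMap A B b • n = 0
          rw [algebraMap_smul]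
          induction n with
          | zero => rw [smul_zero]
          | add x y hx hy => rw [smul_add, hx, hy, add_zero]
          | tmul s y => rw [← TensorProduct.tmul_smul, hJ k b hb, TensorProduct.tmul_zero]
        rw [Ideal.map_pow] at h2
        exact h2 hr
      have h3 : (π k).lTensor B (r • n) = r • (π k).lTensor B n := by
        exact ((π k).baseChange B).map_smul r n
      rw [h3]
      exact h1 _ r hr
    · rw [map_add, hu, hv, add_zero]
  have hfin : Module.Finite B (B ⊗[A] L) := inferInstance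
  have hcomp : IsAdicComplete I (B ⊗[A] L) := Ega1.LimitSystem.isAdicComplete_of_finite
  have hinj : Function.Injective Ψ := by
    rw [← LinearMap.ker_eq_bot, LinearMap.ker_eq_bot']
    intro z hz
    refine hcomp.toIsHausdorff.haus z fun n => ?_
    rw [SModEq.zero]
    exact hmem n z (by rw [hz, map_zero])
  have ht'c : ∀ {i j : ℕ} (h : i ≤ j) (l : L') (z : B ⊗[A] L), π' j (Ψ z) = π' j l → π' i (Ψ z) = π' i l := by
    intro i j h l z hz
    induction j, h using Nat.le_induction with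
    | base => exact hz
    | succ j h ih =>
      apply ih
      rw [← hπt, hz, hπt]
  -- the images
  let T' : ∀ (i n : ℕ), M' (i + n) →ₗ[B] M' i := fun i n =>
    Nat.rec LinearMap.id (fun n f => f ∘ₗ t' (i + n)) n
  have hT'0 : ∀ i, T' i 0 = LinearMap.id := fun i => rfl
  have hT' : ∀ i n, T' i (n + 1) = T' i n ∘ₗ t' (i + n) := fun i n => rfl
  have hT'π : ∀ i n l, T' i n (π' (i + n) l) = π' i l := by
    intro i n l
    induction n with
    | zero => rfl
    | succ n ih =>
      rw [hT', LinearMap.comp_apply]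
      exact (congrArg (T' i n) (hπt (i + n) l)).trans ih
  have hT'φ : ∀ i n (m : M (i + n)), T' i n (φ (i + n) m) = φ i (S.t (Nat.le_add_right i n) m) := by
    intro i n
    induction n with
    | zero => intro m; rw [hT'0, LinearMap.id_apply]; congr 1; exact (S.t_self i m).symm
    | succ n ih =>
      intro m
      rw [hT', LinearMap.comp_apply]
      refine (congrArg (T' i n) (ht' (i + n) m)).trans ?_
      rw [ih, S.t_t]
  have himg : ∀ (k : ℕ) (m : M' (k + c)), ∃ z : B ⊗[A] L, π' k (Ψ z) = T' k c m := by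
    intro k m
    refine (hφ (k + c)).inductionOn m (fun m => ∃ z : B ⊗[A] L, π' k (Ψ z) = T' k c m) ?_ ?_ ?_ ?_
    · exact ⟨0, by rw [map_zero, map_zero, map_zero]⟩
    · intro m
      obtain ⟨l, hl⟩ := hπ.exists_eq hc k m
      refine ⟨1 ⊗ₜ l, ?_⟩
      rw [hΨ, one_smul, hψ, hl, hT'φ]
    · rintro b m ⟨z, hz⟩
      exact ⟨b • z, by rw [map_smul, map_smul, hz, map_smul]⟩
    · rintro m n ⟨z, hz⟩ ⟨w, hw⟩
      exact ⟨z + w, by rw [map_add, map_add, hz, hw, map_add]⟩
  have hsurj : Function.Surjective Ψ := by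
    intro l
    have h1 : ∀ k, ∃ z : B ⊗[A] L, π' k (Ψ z) = π' k l := by
      intro k
      obtain ⟨z, hz⟩ := himg k (π' (k + c) l)
      exact ⟨z, hz.trans (hT'π k c l)⟩
    choose z hz using fun n => h1 (k₀ + n)
    have h2 : ∀ {m n : ℕ}, m ≤ n → z m ≡ z n [SMOD (I ^ m • ⊤ : Submodule B (B ⊗[A] L))] := by
      intro m n hmn
      rw [SModEq.sub_mem]
      apply hmem
      rw [map_sub, map_sub, hz m, ht'c (by omega) l (z n) (hz n), sub_self]
    obtain ⟨w, hw⟩ := hcomp.toIsPrecomplete.prec h2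
    refine ⟨w, ?_⟩
    rw [← sub_eq_zero]
    refine hπ' _ fun k => ?_
    have h3 := hw (k + 1)
    rw [SModEq.sub_mem] at h3
    have h4 := hkill k _ h3
    rw [map_sub, map_sub, sub_eq_zero] at h4
    rw [map_sub, ← h4, ht'c (show k ≤ k₀ + (k + 1) by omega) l (z (k + 1)) (hz (k + 1)), sub_self]
  exact IsBaseChange.of_equiv (LinearEquiv.ofBijective Ψ ⟨hinj, hsurj⟩) (fun l => by
    rw [LinearEquiv.ofBijective_apply, hΨ, one_smul])

end baseChange

end Lim

end K178.TowerAlg
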