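import Groth.Agent.FSch.K178.SysV
import Groth.Agent.FSch.K288.CartLim
import Groth.Agent.FSch.K288.MLSheaf
import Groth.Agent.FSch.K181.FCls

/-!
# `R^q f_* 𝔉 = lim_k R^q f_* 𝔉_k`, Mittag-Leffler and coherence, for `f` proper
-/

set_option autoImplicit false
set_option linter.style.haveILetI false

universe u

open CategoryTheory CategoryTheory.Limits CategoryTheory.Abelian Opposite TopologicalSpace Topology AlgebraicGeometry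

noncomputable section

namespace K178.Trans

open FSch K788.Osh K788.SysB K29.Fml Groth.Agent.Gaga.H977.OpenRes K178.ORes K178.OpenF K178.Alpha K178.Theta
  K578.ModTest K578.PushComp K288.LinH K288.ActDelta K288.HPush K288.FTower K288.FBase K288.TowerAbs K178.TowerAlg
  K181.Good K181.Formal K181.BC
open K29.RSec (O resO Mod app app_comp hom_ext eq_of_forall_nhds ringSheaf resO_self resO_resO)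

variable {𝔛 𝔜 : FSch.Sys.{u}} (h𝔛 : 𝔛.IsLocNoethFormal) (h𝔜 : 𝔜.IsLocNoethFormal) {f : 𝔛 ⟶ 𝔜} {V : (𝔜.X 0).Opens}
  {𝔉 : ModF 𝔛 h𝔛.1} (h𝔉 : IsCohF 𝔛 h𝔛.1 𝔉) (hf : IsProperHom f) (hV : IsAffineOpen V) (q : ℕ)

include hV in
theorem exists_gens : ∃ (r : ℕ) (a : Fin r → O (𝔜.Osh h𝔜.1) V), Ideal.span (Set.range a) = II h𝔜.1 V := by
  have := K29.Fml.isNoetherianRing_O h𝔜 (aff h𝔜 ((mem_fcov h𝔜).2 hV))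
  obtain ⟨r, a, ha⟩ := Submodule.fg_iff_exists_fin_generating_family.1 (IsNoetherian.noetherian (II h𝔜.1 V))
  exact ⟨r, a, ha⟩

section HLim

include h𝔉 hf hV

theorem eq_zero (x : CohTop.HU (ModSite.toAb 𝔉) q ((homMor f h𝔛.1 h𝔜.1).fn.obj V))
    (hx : ∀ k, hm (un h𝔛 𝔉 k) q _ x = 0) : x = 0 := by
  haveI : HasExt.{u + 1} (Mod (𝔛.Osh h𝔛.1)) := HasExt.standard _
  haveI : HasExt.{u + 1} (Mod ((UU h𝔛 f V).Osh (h𝔘 h𝔛 f V).1)) := HasExt.standard _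
  obtain ⟨r, a, ha⟩ := exists_gens h𝔜 hV
  have hl := isLim (h𝔘 h𝔛 f V) (h𝔙 h𝔜 V) (isProper_fV h𝔛 h𝔜 V hf) (isAffine_VV h𝔜 hV) (hFV h𝔛 f V h𝔉)
    (span_τ h𝔜 ha) q
  have h1 : hH h𝔛 h𝔜 (f := f) (V := V) 𝔉 q x = 0 := by
    refine Tw.IsLimn.eq_zero _ _ _ _ hl _ fun k => ?_
    have h2 := un_be (h𝔘 h𝔛 f V) h𝔛 (jU h𝔛 f V) h𝔉 k
    have h3 : hm' h𝔛 h𝔜 f V (FVm h𝔛 f V (un h𝔛 𝔉 k)) q (hH h𝔛 h𝔜 (f := f) (V := V) 𝔉 q x) = 0 := by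
      rw [← hH_hm, hx, map_zero]
    have h4 := hm'_comp (FVm h𝔛 f V (un h𝔛 𝔉 k)) (beV h𝔛 f V h𝔉 k).hom q (hH h𝔛 h𝔜 (f := f) (V := V) 𝔉 q x)
    rw [h3, map_zero] at h4
    refine Eq.trans ?_ h4.symm
    exact congrArg (fun z => hm' h𝔛 h𝔜 f V z q (hH h𝔛 h𝔜 (f := f) (V := V) 𝔉 q x)) h2.symm
  exact (AddEquiv.map_eq_zero_iff _).1 h1

theorem exists_lift (y : ∀ k, CohTop.HU (ModSite.toAb (FF h𝔛 𝔉 k)) q ((homMor f h𝔛.1 h𝔜.1).fn.obj V))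
    (hy : ∀ k, hm (lt h𝔛 𝔉 k) q _ (y (k + 1)) = y k) : ∃ x, ∀ k, hm (un h𝔛 𝔉 k) q _ x = y k := by
  haveI : HasExt.{u + 1} (Mod (𝔛.Osh h𝔛.1)) := HasExt.standard _
  haveI : HasExt.{u + 1} (Mod ((UU h𝔛 f V).Osh (h𝔘 h𝔛 f V).1)) := HasExt.standard _
  obtain ⟨r, a, ha⟩ := exists_gens h𝔜 hV
  have hl := isLim (h𝔘 h𝔛 f V) (h𝔙 h𝔜 V) (isProper_fV h𝔛 h𝔜 V hf) (isAffine_VV h𝔜 hV) (hFV h𝔛 f V h𝔉)
    (span_τ h𝔜 ha) q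
  let z : ∀ k, H' h𝔛 h𝔜 f V (FF (h𝔘 h𝔛 f V) (FV h𝔛 f V 𝔉) k) q := fun k =>
    hm' h𝔛 h𝔜 f V (beV h𝔛 f V h𝔉 k).hom q (hH h𝔛 h𝔜 (f := f) (V := V) (FF h𝔛 𝔉 k) q (y k))
  have hz : ∀ k, hm' h𝔛 h𝔜 f V (lt (h𝔘 h𝔛 f V) (FV h𝔛 f V 𝔉) k) q (z (k + 1)) = z k := by
    intro k
    have h2 := be_trans (h𝔘 h𝔛 f V) h𝔛 (jU h𝔛 f V) h𝔉 k
    change hm' h𝔛 h𝔜 f V _ q (hm' h𝔛 h𝔜 f V _ q _) = hm' h𝔛 h𝔜 f V _ q _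
    rw [← hy k, hH_hm, hm'_comp, hm'_comp]
    exact congrArg (fun w => hm' h𝔛 h𝔜 f V w q (hH h𝔛 h𝔜 (f := f) (V := V) (FF h𝔛 𝔉 (k + 1)) q (y (k + 1)))) h2.symm
  obtain ⟨x, hx⟩ := Tw.IsLimn.exists_lift _ _ _ _ hl z hz
  have hx' : ∀ k, hm' h𝔛 h𝔜 f V (un (h𝔘 h𝔛 f V) (FV h𝔛 f V 𝔉) k) q x = z k := hx
  obtain ⟨x', rfl⟩ := (hH h𝔛 h𝔜 (f := f) (V := V) 𝔉 q).surjective x
  refine ⟨x', fun k => ?_⟩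
  have h2 := un_be (h𝔘 h𝔛 f V) h𝔛 (jU h𝔛 f V) h𝔉 k
  apply (hH h𝔛 h𝔜 (f := f) (V := V) (FF h𝔛 𝔉 k) q).injective
  apply (hi' h𝔛 h𝔜 f V (beV h𝔛 f V h𝔉 k) q).injective
  refine Eq.trans ?_ (hx' k)
  change hm' h𝔛 h𝔜 f V (beV h𝔛 f V h𝔉 k).hom q _ = _
  rw [hH_hm, hm'_comp]
  exact congrArg (fun w => hm' h𝔛 h𝔜 f V w q (hH h𝔛 h𝔜 (f := f) (V := V) 𝔉 q x')) h2

end HLim

variable [HasInjectiveResolutions (ModF 𝔛 h𝔛.1)]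

omit hV in
include h𝔉 hf in
/-- `R^q f_* 𝔉 = lim_k R^q f_* 𝔉_k`. -/
theorem exists_iso : ∃ e : (RpushF f h𝔛.1 h𝔜.1 q).obj 𝔉 ≅
      limit (K178.LimPush.tow (homMor f h𝔛.1 h𝔜.1) q (fun k => lt h𝔛 𝔉 k)), ∀ k : ℕ,
    e.hom ≫ limit.π (K178.LimPush.tow (homMor f h𝔛.1 h𝔜.1) q (fun k => lt h𝔛 𝔉 k)) (op k) =
      (RpushF f h𝔛.1 h𝔜.1 q).map (un h𝔛 𝔉 k) := by
  refine K178.LimPush.exists_iso (homMor f h𝔛.1 h𝔜.1) q (fun k => lt h𝔛 𝔉 k) (fun k => un h𝔛 𝔉 k)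
    (fun k => un_lt h𝔛 𝔉 k) {V | IsAffineOpen V} (fun U y hy => ?_) (fun V hV => ?_) (fun V hV => ?_) (fun V hV k => ?_)
  · obtain ⟨W, h1, h2, h3⟩ := exists_affine_nhd h𝔜.1 y U hy
    rw [lvU_zero] at h3
    exact ⟨W, h3, h1, h2⟩
  · exact eq_zero h𝔛 h𝔜 h𝔉 hf hV q
  · exact exists_lift h𝔛 h𝔜 h𝔉 hf hV q
  · exact K178.LevPush.th_bijective h𝔛.1 h𝔜 hf k q (isCoh_lv h𝔛 𝔉 h𝔉 k) hV

section Sec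

include h𝔉 hf

/-- Sections of `R^q f_* 𝔉` are determined by their images in the `R^q f_* 𝔉_k`. -/
theorem sec_ext (W : (𝔜.X 0).Opens) (x : K29.RSec.Sec ((RpushF f h𝔛.1 h𝔜.1 q).obj 𝔉) W)
    (hx : ∀ k, app ((RpushF f h𝔛.1 h𝔜.1 q).map (un h𝔛 𝔉 k)) W x = 0) : x = 0 := by
  obtain ⟨e, he⟩ := exists_iso h𝔛 h𝔜 h𝔉 hf q
  have h1 : app e.hom W x = 0 := by
    refine K29.RLim.lim_ext _ _ _ fun k => ?_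
    rw [map_zero]
    refine Eq.trans ?_ (hx k)
    rw [← he k]
    rfl
  have h2 := congrArg (app e.inv W) h1
  rw [← app_comp, e.hom_inv_id, map_zero] at h2
  exact h2

theorem sec_lift (W : (𝔜.X 0).Opens) (y : ∀ k, K29.RSec.Sec ((RpushF f h𝔛.1 h𝔜.1 q).obj (FF h𝔛 𝔉 k)) W)
    (hy : ∀ k, app ((RpushF f h𝔛.1 h𝔜.1 q).map (lt h𝔛 𝔉 k)) W (y (k + 1)) = y k) :
    ∃ x : K29.RSec.Sec ((RpushF f h𝔛.1 h𝔜.1 q).obj 𝔉) W,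
      ∀ k, app ((RpushF f h𝔛.1 h𝔜.1 q).map (un h𝔛 𝔉 k)) W x = y k := by
  obtain ⟨e, he⟩ := exists_iso h𝔛 h𝔜 h𝔉 hf q
  obtain ⟨z, hz⟩ := K29.RLim.lim_lift (K178.LimPush.tow (homMor f h𝔛.1 h𝔜.1) q (fun k => lt h𝔛 𝔉 k)) (V := W) y
    (fun k => by
      rw [Functor.ofOpSequence_map_homOfLE_succ]
      exact hy k)
  refine ⟨app e.inv W z, fun k => ?_⟩
  have h1 : e.inv ≫ (RpushF f h𝔛.1 h𝔜.1 q).map (un h𝔛 𝔉 k) =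
      limit.π (K178.LimPush.tow (homMor f h𝔛.1 h𝔜.1) q (fun k => lt h𝔛 𝔉 k)) (op k) := by
    rw [← he k]
    exact Iso.inv_hom_id_assoc e _
  refine Eq.trans ?_ (hz k)
  exact congrArg (fun φ => app φ W z) h1

end Sec

end K178.Trans
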