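import Groth.Agent.FSch.K178.TowerAlg

/-!
# Transport of towers along a ring map and semilinear bijections

`Sys.trans τ S a e`: for `τ : A → A'` with `τ (a i) = a' i` and bijections `e k : M' k ≃+ M k` with
`e k (τ b • m) = b • e k m`, the tower `M k` with the transported operators.  `uml_trans`, `step_trans`.
-/

set_option autoImplicit false

namespace K178.TowerAlg.Sys

variable {A A' : Type*} [CommRing A] [CommRing A'] (τ : A →+* A') {ι : Type*} {a' : ι → A'} {a : ι → A}
  (ha : ∀ i, τ (a i) = a' i) {M' M : ℕ → Type*} [∀ k, AddCommGroup (M' k)] [∀ k, Module A' (M' k)]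
  [∀ k, AddCommGroup (M k)] [∀ k, Module A (M k)] (S : Sys a' M') (e : ∀ k, M' k ≃+ M k)
  (he : ∀ k (b : A) (m : M' k), e k (τ b • m) = b • e k m)

include he in
theorem symm_smul (k : ℕ) (b : A) (m : M k) : (e k).symm (b • m) = τ b • (e k).symm m := by
  apply (e k).injective
  rw [he, AddEquiv.apply_symm_apply, AddEquiv.apply_symm_apply]

/-- A linear map transported. -/
def lin {i j : ℕ} (f : M' i →ₗ[A'] M' j) : M i →ₗ[A] M j where
  toFun m := e j (f ((e i).symm m))
  map_add' x y := by rw [map_add, map_add, map_add]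
  map_smul' b x := by rw [symm_smul τ e he, map_smul, he]; rfl

theorem lin_apply {i j : ℕ} (f : M' i →ₗ[A'] M' j) (m : M i) : lin τ e he f m = e j (f ((e i).symm m)) := rfl

theorem lin_lin {i j k : ℕ} (f : M' i →ₗ[A'] M' j) (g : M' j →ₗ[A'] M' k) (m : M i) :
    lin τ e he g (lin τ e he f m) = e k (g (f ((e i).symm m))) := by
  rw [lin_apply, lin_apply, AddEquiv.symm_apply_apply]

/-- The transported tower. -/
def trans : Sys a M where
  t h := lin τ e he (S.t h)
  x i k := lin τ e he (S.x i k)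
  t_self k m := by rw [lin_apply, S.t_self, AddEquiv.apply_symm_apply]
  t_t h h' m := by rw [lin_lin, S.t_t, lin_apply]
  t_x i k m := by rw [lin_lin, S.t_x, ← ha, he, AddEquiv.apply_symm_apply]
  x_t i k m := by rw [lin_lin, S.x_t, ← ha, he, AddEquiv.apply_symm_apply]
  zero i m := by
    have h1 : a i • m = e 0 (τ (a i) • (e 0).symm m) := by rw [he, AddEquiv.apply_symm_apply]
    rw [h1, ha, S.zero, map_zero]

theorem trans_t {i j : ℕ} (h : i ≤ j) (m : M j) : (trans τ ha S e he).t h m = e i (S.t h ((e j).symm m)) := rfl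

theorem uml_trans {c : ℕ} (hc : S.UML c) : (trans τ ha S e he).UML c := by
  intro i j h m
  obtain ⟨m', hm'⟩ := hc i j h ((e j).symm m)
  refine ⟨e (j + 1) m', ?_⟩
  rw [trans_t, trans_t, AddEquiv.symm_apply_apply, hm']

theorem mem_K_trans {k : ℕ} {l : ∀ k, M k} :
    l ∈ (trans τ ha S e he).K k ↔ (fun k => (e k).symm (l k)) ∈ S.K k := by
  rw [mem_K, mem_K, mem_lim, mem_lim]
  refine and_congr ⟨fun h i j hij => ?_, fun h i j hij => ?_⟩ ⟨fun h => ?_, fun h => ?_⟩
  · rw [← h i j hij, trans_t, AddEquiv.symm_apply_apply]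
  · rw [trans_t, h i j hij, AddEquiv.apply_symm_apply]
  · change (e k).symm (l k) = 0
    rw [h, map_zero]
  · have h2 : (e k).symm (l k) = 0 := h
    rw [← AddEquiv.apply_symm_apply (e k) (l k), h2, map_zero]

theorem step_trans [Fintype ι] {k₀ : ℕ} (hk : S.Step k₀) : (trans τ ha S e he).Step k₀ := by
  intro k h l hl
  rw [mem_K_trans] at hl
  obtain ⟨l', hl', h2⟩ := hk k h _ hl
  have hl'' : ∀ i, (fun n => (e n).symm (e n (l' i n))) = l' i := fun i => funext fun n => AddEquiv.symm_apply_apply _ _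
  refine ⟨fun i n => e n (l' i n), fun i => ?_, ?_⟩
  · rw [mem_K_trans]
    change (fun n => (e n).symm (e n (l' i n))) ∈ _
    rw [hl'']
    exact hl' i
  · rw [mem_K_trans]
    convert h2 using 1
    funext n
    rw [Pi.sub_apply, Pi.sub_apply, map_sub, Finset.sum_apply, Finset.sum_apply, map_sum]
    congr 1
    refine Finset.sum_congr rfl fun i _ => ?_
    rw [Pi.smul_apply, Pi.smul_apply, symm_smul τ e he, ha]
    change a' i • (e n).symm (e n (l' i n)) = _
    rw [AddEquiv.symm_apply_apply]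

end K178.TowerAlg.Sys
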