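import Groth.Agent.FSch.K178.Trans
import Groth.Agent.FSch.K178.LimPush

/-!
# The tower `Γ(V, R^q f_* 𝔉_k)`: Mittag-Leffler, goodness, limit

* `sysV`: the tower `Γ(V, R^q f_* 𝔉_k)` as `TowerAlg.Sys`; `sysV_t`, `exists_uml`, `exists_step`;
* `eq_zero`, `exists_lift`: `H^q(f⁻¹V, 𝔉) = lim_k H^q(f⁻¹V, 𝔉_k)` for `V` affine.
-/

set_option autoImplicit false
set_option linter.style.haveILetI false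

universe u

open CategoryTheory CategoryTheory.Limits CategoryTheory.Abelian Opposite TopologicalSpace Topology AlgebraicGeometry

noncomputable section

namespace K178.Trans

open FSch K788.Osh K788.SysB K29.Fml Groth.Agent.Gaga.H977.OpenRes K178.ORes K178.OpenF K178.Alpha K178.Theta
  K578.ModTest K578.PushComp K288.LinH K288.ActDelta K288.HPush K288.FTower K288.FBase K288.TowerAbs K178.TowerAlg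
open K29.RSec (O resO Mod app app_comp hom_ext eq_of_forall_nhds ringSheaf resO_self resO_resO)

variable {𝔛 𝔜 : FSch.Sys.{u}} (h𝔛 : 𝔛.IsLocNoethFormal) (h𝔜 : 𝔜.IsLocNoethFormal) {f : 𝔛 ⟶ 𝔜} {V : (𝔜.X 0).Opens}

theorem prO_resO_iff {W : (𝔜.X 0).Opens} (e : W = V) (n : ℕ) (x : O (𝔜.Osh h𝔜.1) V) :
    prO h𝔜.1 n W (resO (R := 𝔜.Osh h𝔜.1) e.le x) = 0 ↔ prO h𝔜.1 n V x = 0 := by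
  subst e
  rw [resO_self]

theorem mem_II_iff (x : O (𝔜.Osh h𝔜.1) V) : x ∈ II h𝔜.1 V ↔ τ h𝔜 V x ∈ II (h𝔙 h𝔜 V).1 ⊤ := by
  change prO h𝔜.1 0 V x = 0 ↔ prO (h𝔙 h𝔜 V).1 0 ⊤ _ = 0
  rw [← prO_resO_iff h𝔜 (eV h𝔜 V) 0 x]
  exact sg_mem_iff (h𝔙 h𝔜 V).1 h𝔜.1 (jV h𝔜 V) 0 ⊤ _

theorem span_τ {r : ℕ} {a : Fin r → O (𝔜.Osh h𝔜.1) V} (ha : Ideal.span (Set.range a) = II h𝔜.1 V) :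
    Ideal.span (Set.range fun i => τ h𝔜 V (a i)) = II (h𝔙 h𝔜 V).1 ⊤ := by
  have h1 : (Ideal.span (Set.range a)).map (τ h𝔜 V) = Ideal.span (Set.range fun i => τ h𝔜 V (a i)) := by
    rw [Ideal.map_span, ← Set.range_comp]
    rfl
  rw [← h1, ha]
  ext y
  obtain ⟨x, rfl⟩ := (τ_bijective h𝔜 V).2 y
  rw [Ideal.mem_map_iff_of_surjective _ (τ_bijective h𝔜 V).2, ← mem_II_iff]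
  constructor
  · rintro ⟨z, hz, e⟩
    rwa [(τ_bijective h𝔜 V).1 e] at hz
  · intro h
    exact ⟨x, h, rfl⟩

variable {𝔉 : ModF 𝔛 h𝔛.1} (h𝔉 : IsCohF 𝔛 h𝔛.1 𝔉) [HasInjectiveResolutions (ModF 𝔛 h𝔛.1)]
  (hf : IsProperHom f) (hV : IsAffineOpen V) (q : ℕ) {r : ℕ} {a : Fin r → O (𝔜.Osh h𝔜.1) V}
  (ha : Ideal.span (Set.range a) = II h𝔜.1 V)

/-- The tower `H^q(f⁻¹V, (𝔉|)_k)`. -/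
abbrev twV (f : 𝔛 ⟶ 𝔜) (hf : IsProperHom f) (hV : IsAffineOpen V) {r : ℕ} {a : Fin r → O (𝔜.Osh h𝔜.1) V}
    (ha : Ideal.span (Set.range a) = II h𝔜.1 V) :
    Tw (fact (h𝔘 h𝔛 f V) (ρt (h𝔘 h𝔛 f V) (h𝔙 h𝔜 V) (fV h𝔛 h𝔜 f V))) (fun i => τ h𝔜 V (a i)) :=
  tw (h𝔘 h𝔛 f V) (h𝔙 h𝔜 V) (isProper_fV h𝔛 h𝔜 V hf) (isAffine_VV h𝔜 hV) (span_τ h𝔜 ha) (hFV h𝔛 f V h𝔉)

variable (f V 𝔉) in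
/-- `H^q(f⁻¹V, (𝔉|)_k)`. -/
def MU (k : ℕ) : Type u := H' h𝔛 h𝔜 f V (FF (h𝔘 h𝔛 f V) (FV h𝔛 f V 𝔉) k) q

instance instMU (k : ℕ) : AddCommGroup (MU h𝔛 h𝔜 f V 𝔉 q k) :=
  inferInstanceAs (AddCommGroup (H' h𝔛 h𝔜 f V (FF (h𝔘 h𝔛 f V) (FV h𝔛 f V 𝔉) k) q))

instance instMU' (k : ℕ) : Module (BA (h𝔙 h𝔜 V)) (MU h𝔛 h𝔜 f V 𝔉 q k) :=
  inferInstanceAs (Module (BA (h𝔙 h𝔜 V)) (H' h𝔛 h𝔜 f V (FF (h𝔘 h𝔛 f V) (FV h𝔛 f V 𝔉) k) q))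

variable (f V 𝔉) in
/-- `Γ(V, R^q f_* 𝔉_k)`. -/
def MV (k : ℕ) : Type u := K29.RSec.Sec ((RpushF f h𝔛.1 h𝔜.1 q).obj (FF h𝔛 𝔉 k)) V

instance instMV (k : ℕ) : AddCommGroup (MV h𝔛 h𝔜 f V 𝔉 q k) :=
  inferInstanceAs (AddCommGroup (K29.RSec.Sec ((RpushF f h𝔛.1 h𝔜.1 q).obj (FF h𝔛 𝔉 k)) V))

instance instMV' (k : ℕ) : Module (O (𝔜.Osh h𝔜.1) V) (MV h𝔛 h𝔜 f V 𝔉 q k) :=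
  inferInstanceAs (Module (O (𝔜.Osh h𝔜.1) V) (K29.RSec.Sec ((RpushF f h𝔛.1 h𝔜.1 q).obj (FF h𝔛 𝔉 k)) V))

/-- The bijections. -/
def eMV (k : ℕ) : MU h𝔛 h𝔜 f V 𝔉 q k ≃+ MV h𝔛 h𝔜 f V 𝔉 q k := alk h𝔛 h𝔜 h𝔉 hf hV q k

/-- The tower of cohomology groups. -/
def sysU : Sys (fun i => τ h𝔜 V (a i)) (MU h𝔛 h𝔜 f V 𝔉 q) :=
  (twV h𝔛 h𝔜 h𝔉 f hf hV ha).sys (ZT ((UU h𝔛 f V).X 0).carrier) (tS ((UU h𝔛 f V).Osh (h𝔘 h𝔛 f V).1)) q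

/-- The tower `Γ(V, R^q f_* 𝔉_k)`. -/
def sysV : Sys a (MV h𝔛 h𝔜 f V 𝔉 q) :=
  Sys.trans (τ h𝔜 V) (fun _ => rfl) (sysU h𝔛 h𝔜 h𝔉 hf hV q ha) (eMV h𝔛 h𝔜 h𝔉 hf hV q) (alk_smul h𝔛 h𝔜 h𝔉 hf hV q)

theorem sysV_t (k : ℕ) (m : K29.RSec.Sec ((RpushF f h𝔛.1 h𝔜.1 q).obj (FF h𝔛 𝔉 (k + 1))) V) :
    (sysV h𝔛 h𝔜 h𝔉 hf hV q ha).t (Nat.le_succ k) m = app ((RpushF f h𝔛.1 h𝔜.1 q).map (lt h𝔛 𝔉 k)) V m := by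
  have h1 : (sysU h𝔛 h𝔜 h𝔉 hf hV q ha).t (Nat.le_succ k) =
    hm' h𝔛 h𝔜 f V (lt (h𝔘 h𝔛 f V) (FV h𝔛 f V 𝔉) k) q := (twV h𝔛 h𝔜 h𝔉 f hf hV ha).sys_t _ _ q k
  have h2 := Sys.trans_t (τ h𝔜 V) (fun _ => rfl) (sysU h𝔛 h𝔜 h𝔉 hf hV q ha) (eMV h𝔛 h𝔜 h𝔉 hf hV q)
    (alk_smul h𝔛 h𝔜 h𝔉 hf hV q) (Nat.le_succ k) m
  refine h2.trans ?_
  rw [h1]
  refine (alk_lt h𝔛 h𝔜 h𝔉 hf hV q k _).trans ?_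
  exact congrArg (app ((RpushF f h𝔛.1 h𝔜.1 q).map (lt h𝔛 𝔉 k)) V) (AddEquiv.apply_symm_apply _ m)

theorem exists_uml : ∃ c, (sysV h𝔛 h𝔜 h𝔉 hf hV q ha).UML c := by
  obtain ⟨c, hc⟩ := uml (h𝔘 h𝔛 f V) (h𝔙 h𝔜 V) (isProper_fV h𝔛 h𝔜 V hf) (isAffine_VV h𝔜 hV) (span_τ h𝔜 ha)
    (hFV h𝔛 f V h𝔉) q
  exact ⟨c, Sys.uml_trans _ _ _ _ _ hc⟩

theorem exists_step : ∃ k₀, (sysV h𝔛 h𝔜 h𝔉 hf hV q ha).Step k₀ := by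
  obtain ⟨k₀, hk⟩ := step (h𝔘 h𝔛 f V) (h𝔙 h𝔜 V) (isProper_fV h𝔛 h𝔜 V hf) (isAffine_VV h𝔜 hV) (span_τ h𝔜 ha)
    (hFV h𝔛 f V h𝔉) q
  exact ⟨k₀, Sys.step_trans _ _ _ _ _ hk⟩

section Lim

variable [HasExt.{u + 1} (Mod (𝔛.Osh h𝔛.1))] [HasExt.{u + 1} (Mod ((UU h𝔛 f V).Osh (h𝔘 h𝔛 f V).1))]

/-- `H^q(f⁻¹V, F) ≃ H^q(f⁻¹V, F|)`. -/
def hH (F : ModF 𝔛 h𝔛.1) (q : ℕ) :
    CohTop.HU (ModSite.toAb F) q ((homMor f h𝔛.1 h𝔜.1).fn.obj V) ≃+ H' h𝔛 h𝔜 f V (FV h𝔛 f V F) q :=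
  (eE.{u + 1} F q ((homMor f h𝔛.1 h𝔜.1).fn.obj V)).symm.trans
    (hE.{u + 1, u + 1} (homMor f h𝔛.1 h𝔜.1) (gj (jU h𝔛 f V)) (psi (h𝔘 h𝔛 f V).1 h𝔛.1 (jU h𝔛 f V)) V (eU h𝔛 h𝔜 f V) F q)

theorem hH_hm {F G : ModF 𝔛 h𝔛.1} (φ : F ⟶ G) (q : ℕ)
    (x : CohTop.HU (ModSite.toAb F) q ((homMor f h𝔛.1 h𝔜.1).fn.obj V)) :
    hH h𝔛 h𝔜 G q (hm φ q _ x) = hm' h𝔛 h𝔜 f V (FVm h𝔛 f V φ) q (hH h𝔛 h𝔜 (f := f) (V := V) F q x) := by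
  obtain ⟨y, rfl⟩ := (eE.{u + 1} F q ((homMor f h𝔛.1 h𝔜.1).fn.obj V)).surjective x
  have h1 : ∀ (F : ModF 𝔛 h𝔛.1) (y : Ext.{u + 1} ((PO (𝔛.Osh h𝔛.1)).obj ((homMor f h𝔛.1 h𝔜.1).fn.obj V)) F q),
      hH h𝔛 h𝔜 (f := f) (V := V) F q (eE.{u + 1} F q ((homMor f h𝔛.1 h𝔜.1).fn.obj V) y) =
      hE.{u + 1, u + 1} (homMor f h𝔛.1 h𝔜.1) (gj (jU h𝔛 f V)) (psi (h𝔘 h𝔛 f V).1 h𝔛.1 (jU h𝔛 f V)) V (eU h𝔛 h𝔜 f V) F q y :=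
    fun F y => congrArg (hE.{u + 1, u + 1} (homMor f h𝔛.1 h𝔜.1) (gj (jU h𝔛 f V))
      (psi (h𝔘 h𝔛 f V).1 h𝔛.1 (jU h𝔛 f V)) V (eU h𝔛 h𝔜 f V) F q) (AddEquiv.symm_apply_apply _ y)
  rw [← eE_comp, h1, h1]
  exact hE_comp (homMor f h𝔛.1 h𝔜.1) (gj (jU h𝔛 f V)) (psi (h𝔘 h𝔛 f V).1 h𝔛.1 (jU h𝔛 f V)) V (eU h𝔛 h𝔜 f V) φ q y

end Lim

end K178.Trans
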