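import Groth.Agent.FSch.K178.OpenLev
import Groth.Agent.FSch.K178.LevPush
import Groth.Agent.FSch.K178.SysTrans
import Groth.Agent.FSch.K288.FFin
import Groth.Agent.FBlow.K788.AffV

/-!
# The tower `Γ(V, R^q f_* 𝔉_k)` for `f` proper and `V` affine

`f : 𝔛 ⟶ 𝔜` proper, `V` affine open of `𝔜`, `𝔉` coherent:

* `isProper_fV`: the restriction of `f` over `V` is proper;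
* `alk k : H^q(f⁻¹V, (𝔉|)_k) ≃ Γ(V, R^q f_* 𝔉_k)`, semilinear (`alk_smul`), compatible with the transition maps (`alk_lt`);
* `sysV`: the tower `Γ(V, R^q f_* 𝔉_k)`; `exists_uml`, `exists_step`;
* `eq_zero`, `exists_lift`: `H^q(f⁻¹V, 𝔉) = lim_k H^q(f⁻¹V, 𝔉_k)`.
-/

set_option autoImplicit false
set_option linter.style.haveILetI false

universe u

open CategoryTheory CategoryTheory.Limits CategoryTheory.Abelian Opposite TopologicalSpace Topology AlgebraicGeometry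

noncomputable section

namespace K178.Trans

open FSch K788.Osh K788.SysB K29.Fml Groth.Agent.Gaga.H977.OpenRes K178.ORes K178.OpenF K178.Alpha K178.Theta
  K578.ModTest K578.PushComp K288.LinH K288.ActDelta K288.HPush K288.FTower K288.FBase K288.TowerAbs K178.TowerAlg
open K29.RSec (O resO Mod app app_comp hom_ext eq_of_forall_nhds ringSheaf resO_self resO_resO)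

variable {𝔛 𝔜 : FSch.Sys.{u}} (h𝔛 : 𝔛.IsLocNoethFormal) (h𝔜 : 𝔜.IsLocNoethFormal) (f : 𝔛 ⟶ 𝔜) (V : (𝔜.X 0).Opens)

/-- The open subsystem `V` of `𝔜`. -/
abbrev VV : FSch.Sys.{u} := 𝔜.restrictOpen h𝔜.1 V

/-- The open subsystem `f⁻¹ V` of `𝔛`. -/
abbrev UU : FSch.Sys.{u} := 𝔛.restrictOpen h𝔛.1 (((f : Hom 𝔛 𝔜).app 0) ⁻¹ᵁ V)

/-- The inclusion of `V`. -/
abbrev jV : VV h𝔜 V ⟶ 𝔜 := 𝔜.restrictOpenι h𝔜.1 V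

/-- The inclusion of `f⁻¹ V`. -/
abbrev jU : UU h𝔛 f V ⟶ 𝔛 := 𝔛.restrictOpenι h𝔛.1 (((f : Hom 𝔛 𝔜).app 0) ⁻¹ᵁ V)

/-- The restriction of `f`. -/
abbrev fV : UU h𝔛 f V ⟶ VV h𝔜 V := Hom.restrictOpen f h𝔛.1 h𝔜.1 V

instance instOV : Fact (OpenImm (jV h𝔜 V)) := ⟨K788.Restr.openImm_restrictOpenι h𝔜.1 V⟩

instance instOU : Fact (OpenImm (jU h𝔛 f V)) := ⟨K788.Restr.openImm_restrictOpenι h𝔛.1 _⟩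

theorem h𝔙 : (VV h𝔜 V).IsLocNoethFormal := K28.RestrictSys.isLocNoethFormal_restrictOpen 𝔜 h𝔜.1 V h𝔜

theorem h𝔘 : (UU h𝔛 f V).IsLocNoethFormal := K28.RestrictSys.isLocNoethFormal_restrictOpen 𝔛 h𝔛.1 _ h𝔛

theorem fV_jV : fV h𝔛 h𝔜 f V ≫ jV h𝔜 V = jU h𝔛 f V ≫ f := Hom.restrictOpen_ι f h𝔛.1 h𝔜.1 V

theorem im_top (𝔛 : FSch.Sys.{u}) (h : 𝔛.IsFormal) (U : (𝔛.X 0).Opens)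
    [hj : Fact (OpenImm (𝔛.restrictOpenι h U))] : (imO (gj (𝔛.restrictOpenι h U))).obj ⊤ = U := by
  refine Eq.trans ?_ (K788.Restr.rg_restrictOpenι h U)
  ext x
  constructor
  · rintro ⟨y, _, rfl⟩
    exact ⟨y, rfl⟩
  · rintro ⟨y, rfl⟩
    exact ⟨y, trivial, rfl⟩

theorem eU : (imO (gj (jU h𝔛 f V))).obj ⊤ = (homMor f h𝔛.1 h𝔜.1).fn.obj V := im_top 𝔛 h𝔛.1 _ (hj := instOU h𝔛 f V)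

theorem eV : (imO (gj (jV h𝔜 V))).obj ⊤ = V := im_top 𝔜 h𝔜.1 V (hj := instOV h𝔜 V)

variable {f} in
theorem isProper_fV (hf : IsProperHom f) : IsProperHom (fV h𝔛 h𝔜 f V) := by
  refine ⟨?_, ?_⟩
  · refine isAdicHom_of_comp (K28.RestrictSys.isAdicHom_restrictOpenι 𝔜 h𝔜.1 V) ?_
    have e : fV h𝔛 h𝔜 f V ≫ 𝔜.restrictOpenι h𝔜.1 V = jU h𝔛 f V ≫ f := fV_jV h𝔛 h𝔜 f V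
    rw [e]
    exact isAdicHom_comp (K28.RestrictSys.isAdicHom_restrictOpenι 𝔛 h𝔛.1 _) hf.1
  · have h1 := hf.2
    have h2 := K28.RestrictSys.isPullback_resLE_of_eq ((f : Hom 𝔛 𝔜).app 0) (𝔜.lvU h𝔜.1 0 V) _
      (Hom.lvU_preimage f h𝔛.1 h𝔜.1 0 V)
    exact MorphismProperty.of_isPullback (P := @IsProper) h2 h1

variable {V} in
theorem isAffine_VV (hV : IsAffineOpen V) : IsAffine ((VV h𝔜 V).X 0) := K788.AffV.isAffine_restrictOpen h𝔜.1 hV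

/-- `O_𝔜(V) → O(V)`. -/
def τ : O (𝔜.Osh h𝔜.1) V →+* BA (h𝔙 h𝔜 V) :=
  (sO (h𝔙 h𝔜 V).1 h𝔜.1 (jV h𝔜 V) ⊤).comp (resO (R := 𝔜.Osh h𝔜.1) (eV h𝔜 V).le)

theorem resO_bijective {T : TopCat.{u}} {R : Sheaf (Opens.grothendieckTopology T) CommRingCat.{u}} {U W : Opens T}
    (e : W = U) : Function.Bijective (resO (R := R) e.le) := by
  subst e
  have : (resO (R := R) (le_refl W) : O R W → O R W) = id := funext fun x => resO_self _ x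
  change Function.Bijective (resO (R := R) (le_refl W) : O R W → O R W)
  rw [this]
  exact Function.bijective_id

theorem τ_bijective : Function.Bijective (τ h𝔜 V) :=
  (sg_bijective (h𝔙 h𝔜 V).1 h𝔜.1 (jV h𝔜 V) ⊤).comp (resO_bijective (eV h𝔜 V))

theorem sh_congr {𝔙 𝔚 : FSch.Sys.{u}} (h1 : 𝔙.IsFormal) (h2 : 𝔚.IsFormal) (k₁ k₂ : 𝔙 ⟶ 𝔚) (e : k₁ = k₂)
    (V : (𝔚.X 0).Opens) {U : (𝔙.X 0).Opens} (i₁ : U ≤ pre k₁ V) (i₂ : U ≤ pre k₂ V) (a : K788.Osh.Sec 𝔚 h2 V) :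
    K788.Osh.res 𝔙 h1 i₁ (sh h1 k₁ h2 V a) = K788.Osh.res 𝔙 h1 i₂ (sh h1 k₂ h2 V a) := by
  subst e
  rfl

theorem τ_eq (a : O (𝔜.Osh h𝔜.1) V) (i : (⊤ : ((VV h𝔜 V).X 0).Opens) ≤ pre (jV h𝔜 V) V) :
    τ h𝔜 V a = K788.Osh.res (VV h𝔜 V) (h𝔙 h𝔜 V).1 i (sh (h𝔙 h𝔜 V).1 (jV h𝔜 V) h𝔜.1 V a) := by
  change K788.Osh.res (VV h𝔜 V) (h𝔙 h𝔜 V).1 (le_pre (jV h𝔜 V) ⊤) (sh (h𝔙 h𝔜 V).1 (jV h𝔜 V) h𝔜.1 _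
    (K788.Osh.res 𝔜 h𝔜.1 (eV h𝔜 V).le a)) = _
  rw [sh_res, K788.Osh.res_res]

/-- The ring maps are compatible. -/
theorem ρt_τ (a : O (𝔜.Osh h𝔜.1) V) : ρt (h𝔘 h𝔛 f V) (h𝔙 h𝔜 V) (fV h𝔛 h𝔜 f V) (τ h𝔜 V a) =
    sO (h𝔘 h𝔛 f V).1 h𝔛.1 (jU h𝔛 f V) ⊤
      (resO (R := 𝔛.Osh h𝔛.1) (eU h𝔛 h𝔜 f V).le (shp (homMor f h𝔛.1 h𝔜.1) V a)) := by
  have iV : (⊤ : ((VV h𝔜 V).X 0).Opens) ≤ pre (jV h𝔜 V) V := fun y _ => (eV h𝔜 V).le ⟨y, trivial, rfl⟩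
  have iU : (⊤ : ((UU h𝔛 f V).X 0).Opens) ≤ pre (jU h𝔛 f V) (pre f V) := fun y _ => (eU h𝔛 h𝔜 f V).le ⟨y, trivial, rfl⟩
  rw [τ_eq h𝔜 V a iV]
  change K788.Osh.res (UU h𝔛 f V) (h𝔘 h𝔛 f V).1 (show ⊤ ≤ pre (fV h𝔛 h𝔜 f V) ⊤ from le_rfl)
    (sh (h𝔘 h𝔛 f V).1 (fV h𝔛 h𝔜 f V) (h𝔙 h𝔜 V).1 ⊤
    (K788.Osh.res (VV h𝔜 V) (h𝔙 h𝔜 V).1 iV (sh (h𝔙 h𝔜 V).1 (jV h𝔜 V) h𝔜.1 V a))) =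
    K788.Osh.res (UU h𝔛 f V) (h𝔘 h𝔛 f V).1 (le_pre (jU h𝔛 f V) ⊤) (sh (h𝔘 h𝔛 f V).1 (jU h𝔛 f V) h𝔛.1 _
      (K788.Osh.res 𝔛 h𝔛.1 (eU h𝔛 h𝔜 f V).le (sh h𝔛.1 f h𝔜.1 V a)))
  rw [sh_res, K788.Osh.res_res, ← sh_comp, sh_res, K788.Osh.res_res]
  refine (sh_congr _ _ _ _ (fV_jV h𝔛 h𝔜 f V) V _ iU a).trans ?_
  exact congrArg (K788.Osh.res (UU h𝔛 f V) (h𝔘 h𝔛 f V).1 iU) (sh_comp (h𝔘 h𝔛 f V).1 h𝔛.1 h𝔜.1 (jU h𝔛 f V) f V a)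

variable {𝔉 : ModF 𝔛 h𝔛.1} (h𝔉 : IsCohF 𝔛 h𝔛.1 𝔉)

/-- The restriction of `𝔉` to `f⁻¹ V`. -/
abbrev FV (F : ModF 𝔛 h𝔛.1) : ModF (UU h𝔛 f V) (h𝔘 h𝔛 f V).1 := (rF (h𝔘 h𝔛 f V).1 h𝔛.1 (jU h𝔛 f V)).obj F

/-- The restriction of a morphism to `f⁻¹ V`. -/
abbrev FVm {F G : ModF 𝔛 h𝔛.1} (φ : F ⟶ G) : FV h𝔛 f V F ⟶ FV h𝔛 f V G :=
  (rF (h𝔘 h𝔛 f V).1 h𝔛.1 (jU h𝔛 f V)).map φ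

include h𝔉 in
theorem hFV : IsCohF (UU h𝔛 f V) (h𝔘 h𝔛 f V).1 (FV h𝔛 f V 𝔉) := isCohF_rF (h𝔘 h𝔛 f V).1 h𝔛.1 (jU h𝔛 f V) h𝔉

/-- Cohomology of modules on `f⁻¹ V`. -/
abbrev H' (G : ModF (UU h𝔛 f V) (h𝔘 h𝔛 f V).1) (q : ℕ) : Type u :=
  HM (R := (UU h𝔛 f V).Osh (h𝔘 h𝔛 f V).1) (ρt (h𝔘 h𝔛 f V) (h𝔙 h𝔜 V) (fV h𝔛 h𝔜 f V)) G q

/-- Functoriality. -/
abbrev hm' {G₁ G₂ : ModF (UU h𝔛 f V) (h𝔘 h𝔛 f V).1} (φ : G₁ ⟶ G₂) (q : ℕ) :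
    H' h𝔛 h𝔜 f V G₁ q →ₗ[BA (h𝔙 h𝔜 V)] H' h𝔛 h𝔜 f V G₂ q :=
  hX (act (R := (UU h𝔛 f V).Osh (h𝔘 h𝔛 f V).1) (ρt (h𝔘 h𝔛 f V) (h𝔙 h𝔜 V) (fV h𝔛 h𝔜 f V)))
    (ZT ((UU h𝔛 f V).X 0).carrier) (tS ((UU h𝔛 f V).Osh (h𝔘 h𝔛 f V).1)) φ q

variable {h𝔛 h𝔜 f V} in
theorem hm'_comp {G₁ G₂ G₃ : ModF (UU h𝔛 f V) (h𝔘 h𝔛 f V).1} (φ : G₁ ⟶ G₂) (ψ : G₂ ⟶ G₃) (q : ℕ)
    (x : H' h𝔛 h𝔜 f V G₁ q) : hm' h𝔛 h𝔜 f V ψ q (hm' h𝔛 h𝔜 f V φ q x) = hm' h𝔛 h𝔜 f V (φ ≫ ψ) q x :=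
  (em_comp _ _ φ ψ q x).symm

variable {h𝔛 h𝔜 f V} in
theorem hm'_id {G₁ : ModF (UU h𝔛 f V) (h𝔘 h𝔛 f V).1} (q : ℕ)
    (x : H' h𝔛 h𝔜 f V G₁ q) : hm' h𝔛 h𝔜 f V (𝟙 G₁) q x = x := em_id _ _ _ q x

/-- Functoriality for isomorphisms. -/
def hi' {G₁ G₂ : ModF (UU h𝔛 f V) (h𝔘 h𝔛 f V).1} (e : G₁ ≅ G₂) (q : ℕ) :
    H' h𝔛 h𝔜 f V G₁ q ≃+ H' h𝔛 h𝔜 f V G₂ q where
  toFun := hm' h𝔛 h𝔜 f V e.hom q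
  invFun := hm' h𝔛 h𝔜 f V e.inv q
  left_inv x := by rw [hm'_comp, e.hom_inv_id, hm'_id]
  right_inv x := by rw [hm'_comp, e.inv_hom_id, hm'_id]
  map_add' := map_add _

variable [HasInjectiveResolutions (ModF 𝔛 h𝔛.1)]

/-- `H^q(f⁻¹V, F) → Γ(V, R^q f_* F)`. -/
def alV (F : ModF 𝔛 h𝔛.1) (q : ℕ) : H' h𝔛 h𝔜 f V (FV h𝔛 f V F) q →+ K29.RSec.Sec ((RpushF f h𝔛.1 h𝔜.1 q).obj F) V :=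
  al (homMor f h𝔛.1 h𝔜.1) (gj (jU h𝔛 f V)) (psi (h𝔘 h𝔛 f V).1 h𝔛.1 (jU h𝔛 f V)) V (eU h𝔛 h𝔜 f V) F q

theorem alV_hm {F G : ModF 𝔛 h𝔛.1} (φ : F ⟶ G) (q : ℕ) (x : H' h𝔛 h𝔜 f V (FV h𝔛 f V F) q) :
    alV h𝔛 h𝔜 f V G q (hm' h𝔛 h𝔜 f V (FVm h𝔛 f V φ) q x) =
      app ((RpushF f h𝔛.1 h𝔜.1 q).map φ) V (alV h𝔛 h𝔜 f V F q x) :=
  al_map (homMor f h𝔛.1 h𝔜.1) (gj (jU h𝔛 f V)) (psi (h𝔘 h𝔛 f V).1 h𝔛.1 (jU h𝔛 f V)) V (eU h𝔛 h𝔜 f V) φ q x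

theorem alV_smul (F : ModF 𝔛 h𝔛.1) (q : ℕ) (b : O (𝔜.Osh h𝔜.1) V) (x : H' h𝔛 h𝔜 f V (FV h𝔛 f V F) q) :
    alV h𝔛 h𝔜 f V F q (τ h𝔜 V b • x) = b • alV h𝔛 h𝔜 f V F q x := by
  refine al_mul (homMor f h𝔛.1 h𝔜.1) (gj (jU h𝔛 f V)) (psi (h𝔘 h𝔛 f V).1 h𝔛.1 (jU h𝔛 f V)) V (eU h𝔛 h𝔜 f V) b
    (ρt (h𝔘 h𝔛 f V) (h𝔙 h𝔜 V) (fV h𝔛 h𝔜 f V) (τ h𝔜 V b)) ?_ F q x
  rw [ρt_τ]
  exact cψ_sg (h𝔘 h𝔛 f V).1 h𝔛.1 (jU h𝔛 f V) ⊤ _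

variable {f V} in
include h𝔉 in
theorem alV_bijective (hf : IsProperHom f) (hV : IsAffineOpen V) (k q : ℕ) :
    Function.Bijective (alV h𝔛 h𝔜 f V (FF h𝔛 𝔉 k) q) :=
  al_bijective _ _ _ _ _ _ _ (K178.LevPush.th_bijective h𝔛.1 h𝔜 hf k q (isCoh_lv h𝔛 𝔉 h𝔉 k) hV)

/-- `(𝔉_k)| ≅ (𝔉|)_k`. -/
abbrev beV (k : ℕ) : FV h𝔛 f V (FF h𝔛 𝔉 k) ≅ FF (h𝔘 h𝔛 f V) (FV h𝔛 f V 𝔉) k := be (h𝔘 h𝔛 f V) h𝔛 (jU h𝔛 f V) h𝔉 k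

variable {f V} in
/-- `H^q(f⁻¹V, (𝔉|)_k) ≃ Γ(V, R^q f_* 𝔉_k)`. -/
def alk (hf : IsProperHom f) (hV : IsAffineOpen V) (q k : ℕ) :
    H' h𝔛 h𝔜 f V (FF (h𝔘 h𝔛 f V) (FV h𝔛 f V 𝔉) k) q ≃+ K29.RSec.Sec ((RpushF f h𝔛.1 h𝔜.1 q).obj (FF h𝔛 𝔉 k)) V :=
  (hi' h𝔛 h𝔜 f V (beV h𝔛 f V h𝔉 k).symm q).trans (AddEquiv.ofBijective _ (alV_bijective h𝔛 h𝔜 h𝔉 hf hV k q))

variable {f V} (hf : IsProperHom f) (hV : IsAffineOpen V) (q k : ℕ)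

theorem alk_apply (x : H' h𝔛 h𝔜 f V (FF (h𝔘 h𝔛 f V) (FV h𝔛 f V 𝔉) k) q) :
    alk h𝔛 h𝔜 h𝔉 hf hV q k x = alV h𝔛 h𝔜 f V (FF h𝔛 𝔉 k) q (hm' h𝔛 h𝔜 f V (beV h𝔛 f V h𝔉 k).inv q x) := rfl

theorem alk_smul (b : O (𝔜.Osh h𝔜.1) V) (x : H' h𝔛 h𝔜 f V (FF (h𝔘 h𝔛 f V) (FV h𝔛 f V 𝔉) k) q) :
    alk h𝔛 h𝔜 h𝔉 hf hV q k (τ h𝔜 V b • x) = b • alk h𝔛 h𝔜 h𝔉 hf hV q k x := by
  rw [alk_apply, alk_apply, map_smul, alV_smul]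

theorem alk_lt (x : H' h𝔛 h𝔜 f V (FF (h𝔘 h𝔛 f V) (FV h𝔛 f V 𝔉) (k + 1)) q) :
    alk h𝔛 h𝔜 h𝔉 hf hV q k (hm' h𝔛 h𝔜 f V (lt (h𝔘 h𝔛 f V) (FV h𝔛 f V 𝔉) k) q x) =
      app ((RpushF f h𝔛.1 h𝔜.1 q).map (lt h𝔛 𝔉 k)) V (alk h𝔛 h𝔜 h𝔉 hf hV q (k + 1) x) := by
  rw [alk_apply, alk_apply, ← alV_hm, hm'_comp, hm'_comp]
  congr 2
  have h1 := be_trans (h𝔘 h𝔛 f V) h𝔛 (jU h𝔛 f V) h𝔉 k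
  congr 1
  rw [Iso.comp_inv_eq, Category.assoc]
  refine Eq.trans ?_ (congrArg (fun z => (beV h𝔛 f V h𝔉 (k + 1)).inv ≫ z) h1.symm)
  exact (Iso.inv_hom_id_assoc (beV h𝔛 f V h𝔉 (k + 1)) _).symm

end K178.Trans
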